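import Mathlib
import Cfsg.Agent.GStructB.FrobeniusCount
import Cfsg.Agent.Lib.CharTheory.QuasiElementary

/-!
# Groups of order `q (q² - 1) / d` with Sylow centralisers of `p`-elements

Every nontrivial `p`-element has a Sylow `p`-subgroup as its centraliser.
-/

set_option autoImplicit false
set_option linter.unusedSectionVars false
set_option linter.style.haveILetI false

namespace Cfsg.Agent.ClassSizePSL

open MulAction
open scoped Pointwise

universe u

/-- The hypotheses on the quotient by the centre. -/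
structure CentSylow (Q : Type u) [Group Q] (p q d : ℕ) : Prop where
  hp : p.Prime
  hq : ∃ f, q = p ^ f
  h4 : 4 ≤ q
  hd : d = 1 ∧ p = 2 ∨ d = 2 ∧ p ≠ 2
  hcard : Nat.card Q * d = q * ((q - 1) * (q + 1))
  hC : ∀ x : Q, x ≠ 1 → (∃ i, x ^ p ^ i = 1) → Nat.card (Subgroup.centralizer ({x} : Set Q)) = q

variable {Q : Type u} [Group Q] [Finite Q] {p q d : ℕ} (S : CentSylow Q p q d)
include S

theorem CentSylow.dvd_q : p ∣ q := by
  obtain ⟨f, hf⟩ := S.hq
  have h4 := S.h4
  rcases f with _ | f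
  · rw [hf, pow_zero] at h4; omega
  · rw [hf]; exact dvd_pow_self p (Nat.succ_ne_zero f)

theorem CentSylow.not_dvd_sub : ¬ p ∣ (q - 1) * (q + 1) := by
  intro h
  have := S.h4
  rcases S.hp.dvd_mul.1 h with h | h
  · have := Nat.dvd_sub S.dvd_q h
    rw [show q - (q - 1) = 1 by omega] at this
    exact S.hp.not_dvd_one this
  · have := Nat.dvd_sub h S.dvd_q
    rw [show q + 1 - q = 1 by omega] at this
    exact S.hp.not_dvd_one this

theorem CentSylow.card_sylow (P : Sylow p Q) : Nat.card P = q := by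
  haveI := Fact.mk S.hp
  obtain ⟨f, hf⟩ := S.hq
  have h4 := S.h4
  have hd0 : d ≠ 0 := by rcases S.hd with h | h <;> omega
  have hpd : ¬ p ∣ d := by
    rcases S.hd with ⟨h, -⟩ | ⟨h, hp2⟩
    · rw [h]; exact S.hp.not_dvd_one
    · rw [h]; exact fun e => hp2 ((Nat.prime_dvd_prime_iff_eq S.hp Nat.prime_two).1 e)
  have h1 : (Nat.card Q).factorization p = f := by
    have e := congrArg (fun n => n.factorization p) S.hcard
    have hne : (q - 1) * (q + 1) ≠ 0 := Nat.mul_ne_zero (by omega) (by omega)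
    simp only [Nat.factorization_mul Nat.card_pos.ne' hd0,
      Nat.factorization_mul (show q ≠ 0 by omega) hne, Finsupp.add_apply,
      Nat.factorization_eq_zero_of_not_dvd hpd,
      Nat.factorization_eq_zero_of_not_dvd S.not_dvd_sub] at e
    rw [hf, S.hp.factorization_pow, Finsupp.single_eq_same] at e
    omega
  rw [P.card_eq_multiplicity, h1, hf]

theorem CentSylow.exists_pow (P : Sylow p Q) {x : Q} (hx : x ∈ (P : Subgroup Q)) :
    ∃ i, x ^ p ^ i = 1 := by
  obtain ⟨i, hi⟩ := P.isPGroup' ⟨x, hx⟩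
  exact ⟨i, congrArg Subtype.val hi⟩

theorem CentSylow.exists_sylow {x : Q} (hx1 : x ≠ 1) (hx : ∃ i, x ^ p ^ i = 1) :
    ∃ P : Sylow p Q, (P : Subgroup Q) = Subgroup.centralizer ({x} : Set Q) := by
  haveI := Fact.mk S.hp
  obtain ⟨P₀⟩ : Nonempty (Sylow p Q) := inferInstance
  refine ⟨Sylow.ofCard (Subgroup.centralizer ({x} : Set Q)) ?_, rfl⟩
  rw [S.hC x hx1 hx, ← S.card_sylow P₀, P₀.card_eq_multiplicity]

theorem CentSylow.pow_q {x : Q} (hx : ∃ i, x ^ p ^ i = 1) : x ^ q = 1 := by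
  by_cases hx1 : x = 1
  · rw [hx1, one_pow]
  have h := Subgroup.orderOf_dvd_natCard (Subgroup.centralizer ({x} : Set Q))
    (Subgroup.mem_centralizer_singleton_iff.2 rfl)
  rw [S.hC x hx1 hx] at h
  exact orderOf_dvd_iff_pow_eq_one.1 h

theorem CentSylow.eq_one_of_commute {x u : Q} (hx1 : x ≠ 1) (hx : ∃ i, x ^ p ^ i = 1)
    (hu : Nat.Coprime (orderOf u) p) (h : u * x = x * u) : u = 1 := by
  have h1 := Subgroup.orderOf_dvd_natCard (Subgroup.centralizer ({x} : Set Q))
    (Subgroup.mem_centralizer_singleton_iff.2 h)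
  rw [S.hC x hx1 hx] at h1
  obtain ⟨f, hf⟩ := S.hq
  exact orderOf_eq_one_iff.1 ((hu.pow_right f).eq_one_of_dvd (hf ▸ h1))

/-- The centre of a Sylow subgroup, as a subgroup of the whole group. -/
def kern (P : Sylow p Q) : Subgroup Q :=
  (P : Subgroup Q) ⊓ Subgroup.centralizer ((P : Subgroup Q) : Set Q)

theorem CentSylow.centralizer_eq {P : Sylow p Q} {x : Q} (hx : x ∈ kern P) (hx1 : x ≠ 1) :
    Subgroup.centralizer ({x} : Set Q) = (P : Subgroup Q) := by
  haveI := Fact.mk S.hp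
  refine (Subgroup.eq_of_le_of_card_ge (fun u hu => ?_) ?_).symm
  · exact Subgroup.mem_centralizer_singleton_iff.2 (Subgroup.mem_centralizer_iff.1 hx.2 u hu)
  · rw [S.hC x hx1 (S.exists_pow P hx.1), S.card_sylow P]

theorem CentSylow.mem_kern {P : Sylow p Q} {x : Q}
    (h : Subgroup.centralizer ({x} : Set Q) = (P : Subgroup Q)) : x ∈ kern P := by
  refine ⟨h ▸ Subgroup.mem_centralizer_singleton_iff.2 rfl, Subgroup.mem_centralizer_iff.2 fun u hu => ?_⟩
  rw [SetLike.mem_coe, ← h, Subgroup.mem_centralizer_singleton_iff] at hu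
  exact hu

theorem CentSylow.kern_ne_bot (P : Sylow p Q) : kern P ≠ ⊥ := by
  haveI := Fact.mk S.hp
  haveI : Nontrivial (P : Subgroup Q) := by
    rw [← Finite.one_lt_card_iff_nontrivial]
    have := S.card_sylow P
    have := S.h4
    omega
  obtain ⟨⟨z, hzP⟩, hz, hz1⟩ := (Subgroup.bot_or_exists_ne_one _).resolve_left
    P.isPGroup'.bot_lt_center.ne'
  intro e
  have hm : z ∈ kern P := ⟨hzP, Subgroup.mem_centralizer_iff.2 fun u hu =>
    congrArg Subtype.val (Subgroup.mem_center_iff.1 hz ⟨u, hu⟩)⟩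
  rw [e, Subgroup.mem_bot] at hm
  exact hz1 (Subtype.ext hm)

theorem CentSylow.conj_kern (g : Q) (P : Sylow p Q) {x : Q} (hx : x ∈ kern P) :
    g * x * g⁻¹ ∈ kern (g • P) := by
  by_cases hx1 : x = 1
  · rw [hx1, mul_one, mul_inv_cancel]; exact one_mem _
  refine S.mem_kern ?_
  rw [Sylow.coe_subgroup_smul]
  ext u
  rw [Subgroup.mem_pointwise_smul_iff_inv_smul_mem, ← S.centralizer_eq hx hx1,
    Subgroup.mem_centralizer_singleton_iff, Subgroup.mem_centralizer_singleton_iff]
  simp only [← map_inv, MulAut.smul_def, MulAut.conj_apply, inv_inv]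
  constructor <;> intro h
  · calc g⁻¹ * u * g * x = g⁻¹ * (u * (g * x * g⁻¹)) * g := by group
      _ = g⁻¹ * (g * x * g⁻¹ * u) * g := by rw [h]
      _ = x * (g⁻¹ * u * g) := by group
  · calc u * (g * x * g⁻¹) = g * (g⁻¹ * u * g * x) * g⁻¹ := by group
      _ = g * (x * (g⁻¹ * u * g)) * g⁻¹ := by rw [h]
      _ = g * x * g⁻¹ * u := by group

theorem CentSylow.card_kern (P R : Sylow p Q) : Nat.card (kern P) = Nat.card (kern R) := by
  haveI := Fact.mk S.hp
  have key : ∀ A B : Sylow p Q, Nat.card (kern A) ≤ Nat.card (kern B) := fun A B => by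
    obtain ⟨g, rfl⟩ := MulAction.exists_smul_eq Q A B
    refine Nat.card_le_card_of_injective
      (fun x : kern A => (⟨g * x * g⁻¹, S.conj_kern g A x.2⟩ : kern (g • A))) fun x y e => ?_
    exact Subtype.ext (mul_left_cancel (mul_right_cancel (congrArg Subtype.val e : g * (x : Q) * g⁻¹ = g * y * g⁻¹)))
  exact le_antisymm (key P R) (key R P)

theorem card_ne_one (H : Subgroup Q) : Nat.card {x : Q // x ∈ H ∧ x ≠ 1} = Nat.card H - 1 := by
  classical
  haveI := Fintype.ofFinite Q
  rw [Nat.card_eq_fintype_card, Fintype.card_subtype,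
    show (Finset.univ.filter fun x => x ∈ H ∧ x ≠ 1) = (Finset.univ.filter fun x => x ∈ H).erase 1 by
      ext x; simp [and_comm],
    Finset.card_erase_of_mem (by simp), ← Fintype.card_subtype, ← Nat.card_eq_fintype_card]

theorem CentSylow.count (P : Sylow p Q) :
    q ∣ Nat.card (Sylow p Q) * (Nat.card (kern P) - 1) + 1 := by
  classical
  haveI := Fact.mk S.hp
  haveI := Fintype.ofFinite Q
  haveI := Fintype.ofFinite (Sylow p Q)
  have hq : q ∣ Nat.card Q := S.card_sylow P ▸ Subgroup.card_subgroup_dvd_card (P : Subgroup Q)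
  have hfro := GStructB.FrobeniusCount.dvd_numPowOne hq
  refine (congrArg (q ∣ ·) ?_).mp hfro
  let f : (Σ R : Sylow p Q, {x : Q // x ∈ kern R ∧ x ≠ 1}) → {x : Q // x ^ q = 1 ∧ x ≠ 1} :=
    fun a => ⟨a.2.1, S.pow_q (S.exists_pow a.1 a.2.2.1.1), a.2.2.2⟩
  have hf : Function.Bijective f := by
    constructor
    · rintro ⟨R, x, hx, hx1⟩ ⟨R', x', hx', hx1'⟩ e
      obtain rfl : x = x' := congrArg Subtype.val e
      obtain rfl : R = R' :=
        Sylow.ext ((S.centralizer_eq hx hx1).symm.trans (S.centralizer_eq hx' hx1'))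
      rfl
    · rintro ⟨x, hxq, hx1⟩
      have hx : ∃ i, x ^ p ^ i = 1 := by
        obtain ⟨f, hf⟩ := S.hq
        exact ⟨f, hf ▸ hxq⟩
      obtain ⟨R, hR⟩ := S.exists_sylow hx1 hx
      exact ⟨⟨R, x, S.mem_kern hR.symm, hx1⟩, rfl⟩
  have h1 : Nat.card {x : Q // x ^ q = 1 ∧ x ≠ 1} =
      Nat.card (Sylow p Q) * (Nat.card (kern P) - 1) := by
    rw [← Nat.card_eq_of_bijective f hf, Nat.card_sigma,
      Finset.sum_congr rfl fun R _ => (card_ne_one S (kern R)).trans (congrArg (· - 1) (S.card_kern R P)),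
      Finset.sum_const, Finset.card_univ, smul_eq_mul, Nat.card_eq_fintype_card (α := Sylow p Q)]
  show Nat.card {x : Q // x ^ q = 1} = _
  rw [← h1, Nat.card_eq_fintype_card, Nat.card_eq_fintype_card, Fintype.card_subtype,
    Fintype.card_subtype,
    show (Finset.univ.filter fun x : Q => x ^ q = 1 ∧ x ≠ 1) =
      (Finset.univ.filter fun x : Q => x ^ q = 1).erase 1 by ext x; simp [and_comm],
    Finset.card_erase_add_one (by simp)]

theorem CentSylow.conj_mem_kern {P : Sylow p Q} {n : Q}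
    (hn : n ∈ Subgroup.normalizer ((P : Subgroup Q) : Set Q)) {x : Q} (hx : x ∈ kern P) :
    n * x * n⁻¹ ∈ kern P := by
  haveI := Fact.mk S.hp
  have := S.conj_kern n P hx
  rwa [Sylow.smul_eq_iff_mem_normalizer.2 hn] at this

/-- The number of Sylow subgroups and the index of one in its normaliser. -/
theorem CentSylow.numerology (P : Sylow p Q) :
    ∃ m, Nat.card (Subgroup.normalizer ((P : Subgroup Q) : Set Q)) = q * m ∧
      d * m = Nat.card (kern P) - 1 ∧
      Nat.card (Sylow p Q) * (d * m) = (q - 1) * (q + 1) ∧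
      ∀ x ∈ kern P, x ≠ 1 → ∀ T : Finset Q,
        (∀ n ∈ Subgroup.normalizer ((P : Subgroup Q) : Set Q), n * x * n⁻¹ ∈ T) → m ≤ T.card := by
  classical
  haveI := Fact.mk S.hp
  haveI := Fintype.ofFinite Q
  set N := Subgroup.normalizer ((P : Subgroup Q) : Set Q) with hN
  have hle : (P : Subgroup Q) ≤ N := Subgroup.le_normalizer
  obtain ⟨m, hm⟩ : q ∣ Nat.card N := S.card_sylow P ▸ Subgroup.card_dvd_of_le hle
  let X := {x : Q // x ∈ kern P ∧ x ≠ 1}
  letI : MulAction N X :=
    { smul := fun n x => ⟨(n : Q) * x.1 * (n : Q)⁻¹, S.conj_mem_kern n.2 x.2.1,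
        fun e => x.2.2 (by simpa using e)⟩
      one_smul := fun x => Subtype.ext (by
        show ((1 : N) : Q) * x.1 * ((1 : N) : Q)⁻¹ = x.1
        simp)
      mul_smul := fun a b x => Subtype.ext (by
        show ((a * b : N) : Q) * x.1 * ((a * b : N) : Q)⁻¹ =
          (a : Q) * ((b : Q) * x.1 * (b : Q)⁻¹) * (a : Q)⁻¹
        push_cast
        group) }
  have hstab : ∀ x : X, Nat.card (stabilizer N x) = q := fun x => by
    rw [← S.card_sylow P, ← Nat.card_congr (Subgroup.subgroupOfEquivOfLe hle).toEquiv]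
    congr 1
    congr 1
    ext n
    rw [mem_stabilizer_iff, Subgroup.mem_subgroupOf, ← S.centralizer_eq x.2.1 x.2.2,
      Subgroup.mem_centralizer_singleton_iff]
    constructor
    · intro e
      exact mul_inv_eq_iff_eq_mul.1 (congrArg Subtype.val e : (n : Q) * x.1 * (n : Q)⁻¹ = x.1)
    · intro e
      exact Subtype.ext (mul_inv_eq_iff_eq_mul.2 e)
  have hq0 : 0 < q := by have := S.h4; omega
  have horb : ∀ x : X, Nat.card (orbit N x) = m := fun x => by
    have h1 := Nat.card_congr (orbitProdStabilizerEquivGroup N x)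
    rw [Nat.card_prod, hstab x, hm, mul_comm] at h1
    exact Nat.eq_of_mul_eq_mul_left hq0 h1
  have hdvd : m ∣ Nat.card (kern P) - 1 := by
    haveI := Fintype.ofFinite (orbitRel.Quotient N X)
    rw [← card_ne_one S (kern P), Nat.card_congr (selfEquivSigmaOrbits N X), Nat.card_sigma]
    exact Finset.dvd_sum fun ω _ => by rw [horb]
  have htot := Subgroup.card_mul_index N
  rw [show N.index = Nat.card (Sylow p Q) from (Sylow.card_eq_index_normalizer P).symm, hm] at htot
  have hnm : Nat.card (Sylow p Q) * (d * m) = (q - 1) * (q + 1) := by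
    refine Nat.eq_of_mul_eq_mul_left hq0 ?_
    rw [← S.hcard, ← htot]; ring
  have hk1 : 1 < Nat.card (kern P) := Subgroup.one_lt_card_iff_ne_bot _ |>.2 (S.kern_ne_bot P)
  have hkq : Nat.card (kern P) ≤ q := S.card_sylow P ▸ Subgroup.card_le_of_le inf_le_left
  have hcount := S.count P
  have hm0 : 0 < m := Nat.pos_of_ne_zero fun e => by
    rw [e, mul_zero] at hm
    exact Nat.card_pos.ne' hm
  have hmk : m ≤ Nat.card (kern P) - 1 := Nat.le_of_dvd (by omega) hdvd
  have hd2 : d ≤ 2 := by rcases S.hd with h | h <;> omega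
  have hdm : d * m = Nat.card (kern P) - 1 := by
    set k := Nat.card (kern P) - 1 with hk
    set n := Nat.card (Sylow p Q)
    have hle2 : d * m ≤ 2 * k := Nat.mul_le_mul hd2 hmk
    obtain ⟨c, hc⟩ := hcount
    have hz : (q : ℤ) ∣ (d * m : ℕ) - (k : ℤ) := by
      have e1 : ((n : ℤ) * k + 1) = q * c := by exact_mod_cast hc
      have e2 : (n : ℤ) * ((d : ℤ) * m) = ((q : ℤ) - 1) * (q + 1) := by
        have : ((n * (d * m) : ℕ) : ℤ) = (((q - 1) * (q + 1) : ℕ) : ℤ) := by rw [hnm]
        push_cast at this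
        rw [Nat.cast_sub (by omega : 1 ≤ q)] at this
        exact_mod_cast this
      refine ⟨(d : ℤ) * m * c - k * q, ?_⟩
      push_cast
      linear_combination ((d : ℤ) * m) * e1 - (k : ℤ) * e2
    have habs : |((d * m : ℕ) : ℤ) - (k : ℤ)| < q := by
      rw [abs_lt]; constructor <;> omega
    have := Int.eq_zero_of_abs_lt_dvd hz habs
    omega
  refine ⟨m, hm, hdm, hnm, fun x hx hx1 T hT => ?_⟩
  rw [← horb ⟨x, hx, hx1⟩, ← Nat.card_eq_finsetCard]
  refine Nat.card_le_card_of_injective (fun y => ⟨y.1.1, ?_⟩) fun y z e => ?_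
  · obtain ⟨n, hn⟩ := y.2
    rw [← hn]
    exact hT n n.2
  · exact Subtype.ext (Subtype.ext (congrArg Subtype.val e :))

end Cfsg.Agent.ClassSizePSL
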