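import Mathlib
import Cfsg.Agent.Lib.ClassSizePSL.Basic

/-!
# The nontrivial `p`-elements have order `p`
-/

set_option autoImplicit false
set_option linter.unusedSectionVars false
set_option linter.style.haveILetI false

namespace Cfsg.Agent.ClassSizePSL

universe u

variable {Q : Type u} [Group Q] [Finite Q] {p q d : ℕ} (S : CentSylow Q p q d)
include S

theorem CentSylow.pow_p {x : Q} (hx : ∃ i, x ^ p ^ i = 1) : x ^ p = 1 := by
  classical
  haveI := Fact.mk S.hp
  haveI := Fintype.ofFinite Q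
  by_contra hxp
  have hx1 : x ≠ 1 := fun e => hxp (by rw [e, one_pow])
  obtain ⟨R, hR⟩ := S.exists_sylow hx1 hx
  obtain ⟨m, -, hdm, -, horb⟩ := S.numerology R
  set K := kern R with hKdef
  have hxK : x ∈ K := S.mem_kern hR.symm
  have hcomm : ∀ a ∈ K, ∀ b ∈ K, a * b = b * a := fun a ha b hb =>
    Subgroup.mem_centralizer_iff.1 hb.2 a ha.1
  let Om : Subgroup Q :=
    { carrier := {a | a ∈ K ∧ a ^ p = 1}
      one_mem' := ⟨one_mem _, one_pow p⟩
      mul_mem' := fun {a b} ha hb => ⟨mul_mem ha.1 hb.1,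
        by rw [(show Commute a b from hcomm a ha.1 b hb.1).mul_pow, ha.2, hb.2, one_mul]⟩
      inv_mem' := fun {a} ha => ⟨inv_mem ha.1, by rw [inv_pow, ha.2, inv_one]⟩ }
  set A := Finset.univ.filter fun a : Q => a ∈ Om ∧ a ≠ 1 with hA
  set B := Finset.univ.filter fun a : Q => a ∈ K ∧ ¬ a ^ p = 1 with hB
  have hAcard : A.card = Nat.card Om - 1 := by
    rw [← card_ne_one S Om, Nat.card_eq_fintype_card, Fintype.card_subtype]
  have hAB : A.card + B.card = Nat.card K - 1 := by
    rw [← card_ne_one S K, Nat.card_eq_fintype_card, Fintype.card_subtype,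
      ← Finset.card_union_of_disjoint]
    · congr 1
      ext a
      simp only [hA, hB, Finset.mem_union, Finset.mem_filter, Finset.mem_univ, true_and]
      constructor
      · rintro (⟨⟨ha, -⟩, h1⟩ | ⟨ha, hp⟩)
        · exact ⟨ha, h1⟩
        · exact ⟨ha, fun e => hp (by rw [e, one_pow])⟩
      · rintro ⟨ha, h1⟩
        by_cases hp : a ^ p = 1
        · exact Or.inl ⟨⟨ha, hp⟩, h1⟩
        · exact Or.inr ⟨ha, hp⟩
    · rw [Finset.disjoint_left]
      intro a ha hb
      simp only [hA, hB, Finset.mem_filter] at ha hb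
      exact hb.2.2 ha.2.1.2
  have hmB : m ≤ B.card := horb x hxK hx1 B fun n hn => by
    simp only [hB, Finset.mem_filter, Finset.mem_univ, true_and]
    exact ⟨S.conj_mem_kern hn hxK, fun e => hxp (by simpa [conj_pow] using e)⟩
  obtain ⟨a, ha⟩ := (IsPGroup.iff_card.1 (R.isPGroup'.to_le (inf_le_left : K ≤ _)))
  have ha0 : a ≠ 0 := by
    intro e
    rw [e, pow_zero] at ha
    exact S.kern_ne_bot R (Subgroup.card_eq_one.1 ha)
  obtain ⟨⟨y, hy⟩, hyo⟩ := exists_prime_orderOf_dvd_card' (G := K) p (ha ▸ dvd_pow_self p ha0)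
  rw [Subgroup.orderOf_mk] at hyo
  have hy1 : y ≠ 1 := fun e => by
    rw [e, orderOf_one] at hyo
    exact S.hp.one_lt.ne hyo
  have hmA : m ≤ A.card := horb y hy hy1 A fun n hn => by
    simp only [hA, Finset.mem_filter, Finset.mem_univ, true_and]
    exact ⟨⟨S.conj_mem_kern hn hy, by rw [conj_pow, ← hyo, pow_orderOf_eq_one, mul_one, mul_inv_cancel]⟩,
      fun e => hy1 (by simpa using e)⟩
  have hm0 : 0 < m := by
    refine Nat.pos_of_ne_zero fun e => ?_
    rw [e, mul_zero, hKdef] at hdm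
    have := (Subgroup.one_lt_card_iff_ne_bot _).2 (S.kern_ne_bot R)
    omega
  have hk : Nat.card K = p ^ a := ha
  rcases S.hd with ⟨rfl, -⟩ | ⟨rfl, hp2⟩
  · omega
  · obtain ⟨b, hb⟩ := IsPGroup.iff_card.1
      (R.isPGroup'.to_le (fun z hz => hz.1.1 : Om ≤ (R : Subgroup Q)))
    have hb0 : b ≠ 0 := by
      intro e
      rw [e, pow_zero] at hb
      omega
    have hab : 2 * p ^ b = p ^ a + 1 := by
      have h1 := Nat.one_le_pow b p S.hp.pos
      have h2 := Nat.one_le_pow a p S.hp.pos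
      omega
    have hd1 : p ∣ p ^ a + 1 := hab ▸ Dvd.dvd.mul_left (dvd_pow_self p hb0) 2
    exact S.hp.not_dvd_one ((Nat.dvd_add_right (dvd_pow_self p ha0)).1 hd1)

end Cfsg.Agent.ClassSizePSL
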