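import Mathlib
import Cfsg.Agent.Lib.ClassSizePSL.Exponent

/-!
# An element of order `p` normalising a `p'`-group has a non-trivial norm
-/

set_option autoImplicit false
set_option linter.unusedSectionVars false
set_option linter.style.haveILetI false

namespace Cfsg.Agent.ClassSizePSL

open scoped IsMulCommutative

universe u

variable {Q : Type u} [Group Q] [Finite Q] {p q d : ℕ} (S : CentSylow Q p q d)
include S

theorem CentSylow.no_pair {V T : Subgroup Q} [IsMulCommutative V] (hV : IsPGroup p V) (hV1 : V ≠ ⊥)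
    (hT : Nat.Coprime (Nat.card T) p) (hT1 : T ≠ ⊥)
    (hTV : T ≤ Subgroup.normalizer (V : Set Q)) {v : Q} (hv : ∃ i, v ^ p ^ i = 1)
    (hvV : v ∈ Subgroup.normalizer (V : Set Q)) (hvT : v ∈ Subgroup.normalizer (T : Set Q)) :
    v = 1 := by
  classical
  haveI := Fact.mk S.hp
  haveI := Fintype.ofFinite T
  by_contra hv1
  have hvp : v ^ p = 1 := S.pow_p hv
  have hvo : orderOf v = p := orderOf_eq_prime hvp hv1
  let φ : Subgroup.normalizer (V : Set Q) →* (V ≃* V) := Subgroup.normalizerMonoidHom V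
  let v₀ : Subgroup.normalizer (V : Set Q) := ⟨v, hvV⟩
  have hφ : ∀ (n : Subgroup.normalizer (V : Set Q)) (x : V),
      ((φ n x : V) : Q) = (n : Q) * x * (n : Q)⁻¹ := fun _ _ => rfl
  have hφmul : ∀ (a b : Subgroup.normalizer (V : Set Q)) (x : V), φ (a * b) x = φ a (φ b x) :=
    fun a b x => by rw [map_mul]; rfl
  -- the norms vanish
  have hnorm : ∀ x : V, ∏ i ∈ Finset.range p, φ (v₀ ^ i) x = 1 := by
    intro x
    have hpow : ∀ n : ℕ, ((x : Q) * v) ^ n =
        ((∏ i ∈ Finset.range n, φ (v₀ ^ i) x : V) : Q) * v ^ n := by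
      intro n
      induction n with
      | zero => simp
      | succ n ih =>
        rw [pow_succ, ih, Finset.prod_range_succ, Subgroup.coe_mul, hφ, pow_succ]
        simp only [SubmonoidClass.coe_pow, v₀]
        group
    have hxv : ((x : Q) * v) ^ p = 1 := by
      refine S.pow_p ?_
      have hvp' : IsPGroup p (Subgroup.zpowers v) :=
        IsPGroup.of_card (n := 1) (by rw [Nat.card_zpowers, hvo, pow_one])
      obtain ⟨i, hi⟩ := (hV.to_sup_of_normal_left' hvp' ((Subgroup.zpowers_le).2 hvV))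
        ⟨(x : Q) * v, Subgroup.mul_mem_sup x.2 (Subgroup.mem_zpowers v)⟩
      exact ⟨i, congrArg Subtype.val hi⟩
    rw [hpow, hvp, mul_one] at hxv
    exact Subtype.ext hxv
  -- the fixed points of `T` are trivial
  have hfix : ∀ y : V, (∀ t : T, φ ⟨t, hTV t.2⟩ y = y) → y = 1 := by
    intro y hy
    obtain ⟨t, ht, ht1⟩ := (Subgroup.bot_or_exists_ne_one T).resolve_left hT1
    by_contra hy1
    refine ht1 (S.eq_one_of_commute (x := (y : Q)) (fun e => hy1 (Subtype.ext e)) ?_ ?_ ?_)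
    · obtain ⟨i, hi⟩ := hV y
      exact ⟨i, congrArg Subtype.val hi⟩
    · exact hT.coprime_dvd_left (Subgroup.orderOf_dvd_natCard T ht)
    · exact mul_inv_eq_iff_eq_mul.1 (congrArg Subtype.val (hy ⟨t, ht⟩))
  have hsum : ∀ y : V, ∏ t : T, φ ⟨t, hTV t.2⟩ y = 1 := by
    intro y
    refine hfix _ fun t => ?_
    rw [map_prod]
    refine Fintype.prod_equiv (Equiv.mulLeft t) _ _ fun s => ?_
    rw [← hφmul]
    rfl
  -- each nontrivial power of `v` acts on `T` without fixed points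
  have hvi : ∀ i ∈ Finset.range p, i ≠ 0 → ∀ x : V,
      ∏ t : T, φ (⟨t, hTV t.2⟩ * v₀ ^ i * ⟨t, hTV t.2⟩⁻¹) x = 1 := by
    intro i hi hi0 x
    have hvin : v ^ i ∈ Subgroup.normalizer (T : Set Q) := pow_mem hvT i
    let g : T → T := fun t => ⟨(t : Q) * v ^ i * (t : Q)⁻¹ * (v ^ i)⁻¹, by
      have := (Subgroup.mem_normalizer_iff.1 hvin (t : Q)⁻¹).1 (inv_mem t.2)
      simpa [mul_assoc] using mul_mem t.2 this⟩
    have hinj : Function.Injective g := by
      intro a b e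
      have e' : (a : Q) * v ^ i * (a : Q)⁻¹ = (b : Q) * v ^ i * (b : Q)⁻¹ :=
        mul_right_cancel (congrArg Subtype.val e : (a : Q) * v ^ i * (a : Q)⁻¹ * (v ^ i)⁻¹ = _)
      have hvi1 : v ^ i ≠ 1 := by
        refine pow_ne_one_of_lt_orderOf hi0 ?_
        rw [hvo]
        exact Finset.mem_range.1 hi
      refine Subtype.ext (inv_mul_eq_one.1 ?_).symm
      refine S.eq_one_of_commute hvi1 ⟨1, by rw [pow_one, ← pow_mul, mul_comm, pow_mul, hvp, one_pow]⟩
        (hT.coprime_dvd_left (Subgroup.orderOf_dvd_natCard T (mul_mem (inv_mem b.2) a.2))) ?_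
      calc (b : Q)⁻¹ * a * v ^ i = (b : Q)⁻¹ * ((a : Q) * v ^ i * (a : Q)⁻¹) * a := by group
        _ = (b : Q)⁻¹ * ((b : Q) * v ^ i * (b : Q)⁻¹) * a := by rw [e']
        _ = v ^ i * ((b : Q)⁻¹ * a) := by group
    refine (Fintype.prod_equiv (Equiv.ofBijective g (Finite.injective_iff_bijective.1 hinj)) _
      (fun t : T => φ ⟨t, hTV t.2⟩ (φ (v₀ ^ i) x)) fun t => ?_).trans (hsum _)
    show φ _ x = φ ⟨(g t : Q), _⟩ (φ (v₀ ^ i) x)
    rw [← hφmul]
    congr 2
    refine Subtype.ext ?_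
    show _ = (t : Q) * v ^ i * (t : Q)⁻¹ * (v ^ i)⁻¹ * v ^ i
    simp [v₀]
  obtain ⟨x, hx, hx1⟩ := (Subgroup.bot_or_exists_ne_one V).resolve_left hV1
  have hzero : ∀ t : T, ∏ i ∈ Finset.range p,
      φ (⟨t, hTV t.2⟩ * v₀ ^ i * ⟨t, hTV t.2⟩⁻¹) ⟨x, hx⟩ = 1 := by
    intro t
    simp only [hφmul, ← map_prod, hnorm, map_one]
  have htot : ∏ i ∈ Finset.range p, ∏ t : T,
      φ (⟨t, hTV t.2⟩ * v₀ ^ i * ⟨t, hTV t.2⟩⁻¹) ⟨x, hx⟩ = 1 := by
    rw [Finset.prod_comm]
    exact Finset.prod_eq_one fun t _ => hzero t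
  rw [Finset.prod_eq_single_of_mem 0 (Finset.mem_range.2 S.hp.pos)
    (fun i hi hi0 => hvi i hi hi0 _)] at htot
  simp only [pow_zero, mul_one, mul_inv_cancel, map_one, MulAut.one_apply, Finset.prod_const,
    Finset.card_univ] at htot
  have hcard : Nat.Coprime (Nat.card T) (orderOf x) := by
    obtain ⟨i, hi⟩ := hV ⟨x, hx⟩
    exact (hT.pow_right i).coprime_dvd_right (orderOf_dvd_of_pow_eq_one (congrArg Subtype.val hi))
  refine hx1 (orderOf_eq_one_iff.1 (hcard.symm.eq_one_of_dvd ?_))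
  rw [Nat.card_eq_fintype_card, orderOf_dvd_iff_pow_eq_one]
  simpa using congrArg Subtype.val htot

end Cfsg.Agent.ClassSizePSL
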