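import Mathlib
import Cfsg.Agent.Lib.ClassSizePSL.Trace
import Cfsg.Agent.Lib.Coprime.FixedPointFree

/-!
# The Sylow `p`-subgroups are abelian
-/

set_option autoImplicit false
set_option linter.unusedSectionVars false
set_option linter.style.haveILetI false

namespace Cfsg.Agent.ClassSizePSL

open scoped IsMulCommutative Pointwise

universe u

variable {Q : Type u} [Group Q] [Finite Q] {p q d : ℕ} (S : CentSylow Q p q d)
include S

theorem CentSylow.exists_pPart (u : Q) (h : ∀ w ∈ Subgroup.zpowers u, Nat.Coprime (orderOf w) p → w = 1) :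
    ∃ i, u ^ p ^ i = 1 := by
  obtain ⟨a, b, rfl, -, ha, -, ⟨i, hi⟩, hcop⟩ := CharTheory.QuasiElementary.exists_pPart_decomp u S.hp
  exact ⟨i, by rw [h a ha hcop, one_mul, ← hi, pow_orderOf_eq_one]⟩

/-- The contradiction in the normaliser of a maximal intersection of two Sylow subgroups. -/
theorem CentSylow.sylow_normal_of_abelian {L V : Subgroup Q} [IsMulCommutative V] (hp2 : p ≠ 2)
    (hV : IsPGroup p V) (hV1 : V ≠ ⊥) (hLV : L ≤ Subgroup.normalizer (V : Set Q)) :
    ∃ W : Subgroup Q, IsPGroup p W ∧ ∀ v ∈ L, (∃ i, v ^ p ^ i = 1) → v ∈ W := by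
  classical
  haveI := Fact.mk S.hp
  obtain ⟨x, hx, hx1⟩ := (Subgroup.bot_or_exists_ne_one V).resolve_left hV1
  have hxp : ∃ i, x ^ p ^ i = 1 := by
    obtain ⟨i, hi⟩ := hV ⟨x, hx⟩
    exact ⟨i, congrArg Subtype.val hi⟩
  set W := L ⊓ Subgroup.centralizer (V : Set Q) with hW
  have hWp : IsPGroup p W := by
    intro u
    obtain ⟨i, hi⟩ := S.exists_pPart (u : Q) fun w hw hcop => S.eq_one_of_commute hx1 hxp hcop
      (Subgroup.mem_centralizer_iff.1 ((Subgroup.zpowers_le.2 u.2.2) hw) x hx).symm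
    exact ⟨i, Subtype.ext hi⟩
  by_cases heven : 2 ∣ Nat.card L
  · -- an involution inverts `V`
    obtain ⟨⟨t, htL⟩, hto⟩ := exists_prime_orderOf_dvd_card' (G := L) 2 heven
    rw [Subgroup.orderOf_mk] at hto
    have ht1 : t ≠ 1 := fun e => by rw [e, orderOf_one] at hto; omega
    have htt : t * t = 1 := by rw [← pow_two, ← hto, pow_orderOf_eq_one]
    have htinv : t⁻¹ = t := inv_eq_of_mul_eq_one_right htt
    have htcop : Nat.Coprime (orderOf t) p := by
      rw [hto]; exact (Nat.coprime_primes Nat.prime_two S.hp).2 (Ne.symm hp2)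
    have hinv : ∀ y ∈ V, t * y * t = y⁻¹ := by
      intro y hy
      have hy' : t * y * t ∈ V := by
        have := (Subgroup.mem_normalizer_iff.1 (hLV htL) y).1 hy
        rwa [htinv] at this
      have hc : y * (t * y * t) = t * y * t * y :=
        congrArg Subtype.val (mul_comm (⟨y, hy⟩ : V) ⟨_, hy'⟩)
      by_contra hne
      obtain ⟨i, hi⟩ := hV ⟨y * (t * y * t), mul_mem hy hy'⟩
      refine ht1 (S.eq_one_of_commute (fun e => hne (eq_inv_of_mul_eq_one_right e))
        ⟨i, congrArg Subtype.val hi⟩ htcop ?_)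
      calc t * (y * (t * y * t)) = t * y * t * y * t := by group
        _ = y * (t * y * t) * t := by rw [hc]
    refine ⟨W, hWp, fun v hv hvp => ?_⟩
    set w := t * (v * t * v⁻¹) with hw
    have hwW : w ∈ W := by
      refine ⟨L.mul_mem htL (L.mul_mem (L.mul_mem hv htL) (L.inv_mem hv)), Subgroup.mem_centralizer_iff.2 fun y (hy : y ∈ V) => ?_⟩
      have hy' : v⁻¹ * y * v ∈ V := (Subgroup.mem_normalizer_iff''.1 (hLV hv) y).1 hy
      have e1 : v * t * v⁻¹ * y * (v * t * v⁻¹) = y⁻¹ := by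
        calc v * t * v⁻¹ * y * (v * t * v⁻¹) = v * (t * (v⁻¹ * y * v) * t) * v⁻¹ := by group
          _ = v * (v⁻¹ * y * v)⁻¹ * v⁻¹ := by rw [hinv _ hy']
          _ = y⁻¹ := by group
      have e2 : t * y⁻¹ * t = y := by simpa using hinv y⁻¹ (V.inv_mem hy)
      have e3 : v * t * v⁻¹ * (v * t * v⁻¹) = 1 := by
        calc v * t * v⁻¹ * (v * t * v⁻¹) = v * (t * t) * v⁻¹ := by group
          _ = 1 := by rw [htt, mul_one, mul_inv_cancel]
      calc y * w = t * y⁻¹ * t * (t * (v * t * v⁻¹)) := by rw [e2]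
        _ = t * y⁻¹ * (t * t) * (v * t * v⁻¹) := by group
        _ = t * (v * t * v⁻¹ * y * (v * t * v⁻¹)) * (v * t * v⁻¹) := by rw [e1, htt, mul_one]
        _ = t * (v * t * v⁻¹) * y * (v * t * v⁻¹ * (v * t * v⁻¹)) := by group
        _ = w * y := by rw [e3, mul_one]
    have hwinv : t * w * t = w⁻¹ := by
      rw [hw, mul_inv_rev, htinv, mul_inv_rev, mul_inv_rev, inv_inv, htinv, ← mul_assoc t t, htt, one_mul]
      group
    have hwodd : Odd (orderOf w) := by
      obtain ⟨i, hi⟩ := hWp ⟨w, hwW⟩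
      have : orderOf w ∣ p ^ i := orderOf_dvd_of_pow_eq_one (congrArg Subtype.val hi)
      exact ((S.hp.odd_of_ne_two hp2).pow).of_dvd_nat this
    obtain ⟨r, hr⟩ := hwodd
    set s := w ^ (r + 1) with hs
    have hsW : s ∈ W := pow_mem hwW _
    have hss : s * s = w := by
      rw [hs, ← pow_add, show r + 1 + (r + 1) = orderOf w + 1 by omega, pow_succ, pow_orderOf_eq_one,
        one_mul]
    have hts : t * s * t = s⁻¹ := by
      have h := conj_pow (i := r + 1) (a := t) (b := w)
      rw [htinv, hwinv, inv_pow, ← hs] at h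
      exact h.symm
    have hst : s * v * t = t * (s * v) := by
      have e1 : v * t * v⁻¹ = t * (s * s) := by rw [hss, hw, ← mul_assoc t t, htt, one_mul]
      calc s * v * t = s * (v * t * v⁻¹) * v := by group
        _ = s * (t * (s * s)) * v := by rw [e1]
        _ = t * (t * s * t) * (s * s) * v := by rw [← mul_assoc t (t * s) t, ← mul_assoc t t, htt, one_mul]; group
        _ = t * (s * v) := by rw [hts]; group
    have hvp' : IsPGroup p (Subgroup.zpowers v) := by
      obtain ⟨i, hi⟩ := hvp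
      obtain ⟨j, -, hj⟩ := (Nat.dvd_prime_pow S.hp).1 (orderOf_dvd_of_pow_eq_one hi)
      exact IsPGroup.of_card (n := j) (by rw [Nat.card_zpowers, hj])
    have hvn : v ∈ Subgroup.normalizer (W : Set Q) := by
      refine Subgroup.inf_normalizer_le_normalizer_inf (Subgroup.mem_inf.2 ⟨Subgroup.le_normalizer hv, ?_⟩)
      have hn := hLV hv
      rw [Subgroup.mem_normalizer_iff]
      intro z
      simp only [Subgroup.mem_centralizer_iff, SetLike.mem_coe]
      constructor
      · intro hz y hy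
        have := hz _ ((Subgroup.mem_normalizer_iff''.1 hn y).1 hy)
        calc y * (v * z * v⁻¹) = v * (v⁻¹ * y * v * z) * v⁻¹ := by group
          _ = v * (z * (v⁻¹ * y * v)) * v⁻¹ := by rw [this]
          _ = v * z * v⁻¹ * y := by group
      · intro hz y hy
        have := hz _ ((Subgroup.mem_normalizer_iff.1 hn y).1 hy)
        calc y * z = v⁻¹ * (v * y * v⁻¹ * (v * z * v⁻¹)) * v := by group
          _ = v⁻¹ * (v * z * v⁻¹ * (v * y * v⁻¹)) * v := by rw [this]
          _ = z * y := by group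
    obtain ⟨i, hi⟩ := (hWp.to_sup_of_normal_left' hvp' ((Subgroup.zpowers_le).2 hvn))
      ⟨s * v, Subgroup.mul_mem_sup hsW (Subgroup.mem_zpowers v)⟩
    have hsv : s * v = 1 := by
      by_contra hne
      exact ht1 (S.eq_one_of_commute hne ⟨i, congrArg Subtype.val hi⟩ htcop hst.symm)
    rw [eq_inv_of_mul_eq_one_right hsv]
    exact inv_mem hsW
  · -- odd order: induction
    suffices H : ∀ n (M : Subgroup Q), Nat.card M = n → M ≤ L →
        ∃ W : Subgroup Q, IsPGroup p W ∧ ∀ v ∈ M, (∃ i, v ^ p ^ i = 1) → v ∈ W from H _ L rfl le_rfl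
    intro n
    induction n using Nat.strong_induction_on with
    | _ n ih =>
    intro M hMn hML
    by_cases hMp : ∀ l : ℕ, l.Prime → l ∣ Nat.card M → l = p
    · exact ⟨M, IsPGroup.of_card (Nat.eq_prime_pow_of_unique_prime_dvd Nat.card_pos.ne'
        fun {l} hl h => hMp l hl h), fun v hv _ => hv⟩
    push Not at hMp
    have hex : ∃ l, l.Prime ∧ l ∣ Nat.card M ∧ l ≠ p := hMp
    obtain ⟨hl, hlM, hlp⟩ := Nat.find_spec hex
    have hmin : ∀ l', l'.Prime → l' ∣ Nat.card M → l' ≠ p → Nat.find hex ≤ l' :=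
      fun l' a b c => Nat.find_min' hex ⟨a, b, c⟩
    set l := Nat.find hex with hldef
    clear_value l
    haveI := Fact.mk hl
    have hl2 : l ≠ 2 := fun e => heven (e ▸ hlM.trans (Subgroup.card_dvd_of_le hML))
    obtain ⟨T⟩ : Nonempty (Sylow l M) := inferInstance
    set T' := (T : Subgroup M).map M.subtype with hT'
    have hT'M : T' ≤ M := Subgroup.map_subtype_le _
    have hT'l : IsPGroup l T' := T.isPGroup'.map _
    have hT'1 : T' ≠ ⊥ := by
      rw [hT', Ne, Subgroup.map_eq_bot_iff_of_injective _ M.subtype_injective]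
      exact T.ne_bot_of_dvd_card hlM
    have hT'cop : Nat.Coprime (Nat.card T') p := by
      obtain ⟨j, hj⟩ := IsPGroup.iff_card.1 hT'l
      rw [hj]
      exact ((Nat.coprime_primes hl S.hp).2 hlp).pow_left j
    have hTV : T' ≤ Subgroup.normalizer (V : Set Q) := hT'M.trans (hML.trans hLV)
    have hfpf : ∀ a ∈ T', a ≠ 1 → V ⊓ Subgroup.centralizer {a} = ⊥ := by
      intro a ha ha1
      rw [Subgroup.eq_bot_iff_forall]
      rintro y ⟨hy, hya⟩
      by_contra hy1
      obtain ⟨i, hi⟩ := hV ⟨y, hy⟩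
      exact ha1 (S.eq_one_of_commute hy1 ⟨i, congrArg Subtype.val hi⟩
        (hT'cop.coprime_dvd_left (Subgroup.orderOf_dvd_natCard T' ha))
        (Subgroup.mem_centralizer_singleton_iff.1 hya).symm)
    have hcyc' : IsCyclic T' :=
      (Coprime.fpf_isCyclic_or_quaternion hT'l hTV hfpf hV1).resolve_right fun h => hl2 h.1
    have hcyc : IsCyclic T :=
      isCyclic_of_surjective ((T : Subgroup M).equivMapOfInjective _ M.subtype_injective).symm
        ((T : Subgroup M).equivMapOfInjective _ M.subtype_injective).symm.surjective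
    set N := Subgroup.normalizer ((T : Subgroup M) : Set M) with hN
    -- no `p`-element normalises `T`
    have hpN : ¬ p ∣ Nat.card N := by
      intro hd
      obtain ⟨⟨⟨v, hvM⟩, hvN⟩, hvo⟩ := exists_prime_orderOf_dvd_card' (G := N) p hd
      rw [Subgroup.orderOf_mk, Subgroup.orderOf_mk] at hvo
      have hvn : v ∈ Subgroup.normalizer (T' : Set Q) := by
        rw [Subgroup.mem_normalizer_iff]
        intro z
        constructor
        · rintro ⟨w, hw, rfl⟩
          exact ⟨⟨v, hvM⟩ * w * ⟨v, hvM⟩⁻¹, (Subgroup.mem_normalizer_iff.1 hvN w).1 hw, rfl⟩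
        · rintro ⟨w, hw, e⟩
          exact ⟨⟨v, hvM⟩⁻¹ * w * ⟨v, hvM⟩, (Subgroup.mem_normalizer_iff''.1 hvN w).1 hw, by
            rw [map_mul, map_mul, map_inv, e]
            show v⁻¹ * (v * z * v⁻¹) * v = z
            group⟩
      have := S.no_pair hV hV1 hT'cop hT'1 hTV ⟨1, by rw [pow_one, ← hvo, pow_orderOf_eq_one]⟩
        (hLV (hML hvM)) hvn
      rw [this, orderOf_one] at hvo
      exact S.hp.one_lt.ne hvo
    have hminN : (Nat.card N).minFac = l := by
      have hlN : l ∣ Nat.card N :=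
        (T.dvd_card_of_dvd_card hlM).trans (Subgroup.card_dvd_of_le Subgroup.le_normalizer)
      refine le_antisymm (Nat.minFac_le_of_dvd hl.two_le hlN) ?_
      have hne : Nat.card N ≠ 1 := fun e => hl.not_dvd_one (e ▸ hlN)
      exact hmin _ (Nat.minFac_prime hne)
        ((Nat.minFac_dvd _).trans (Subgroup.card_subgroup_dvd_card N))
        fun e => hpN (e ▸ Nat.minFac_dvd _)
    let TN : Sylow l N := T.subtype Subgroup.le_normalizer
    have hcycN : IsCyclic TN :=
      isCyclic_of_surjective (Subgroup.subgroupOfEquivOfLe (Subgroup.le_normalizer : (T : Subgroup M) ≤ N)).symm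
        (Subgroup.subgroupOfEquivOfLe (Subgroup.le_normalizer : (T : Subgroup M) ≤ N)).symm.surjective
    have hcen : N ≤ Subgroup.centralizer ((T : Subgroup M) : Set M) := by
      intro g hg
      have hgN : (⟨g, hg⟩ : N) ∈ Subgroup.normalizer ((TN : Subgroup N) : Set N) := by
        rw [Subgroup.mem_normalizer_iff]
        intro z
        exact Subgroup.mem_normalizer_iff.1 hg (z : M)
      have h := hcycN.normalizer_le_centralizer hminN hgN
      rw [Subgroup.mem_centralizer_iff] at h ⊢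
      intro z hz
      exact congrArg Subtype.val (h ⟨z, Subgroup.le_normalizer hz⟩ hz)
    let f := MonoidHom.transferSylow T hcen
    have hcompl := MonoidHom.ker_transferSylow_isComplement' T hcen
    have hlt : Nat.card ↥(f.ker.map M.subtype) < n := by
      rw [Subgroup.card_map_of_injective M.subtype_injective, ← hMn, ← hcompl.card_mul_card]
      refine lt_mul_of_one_lt_right Nat.card_pos ?_
      exact (Subgroup.one_lt_card_iff_ne_bot _).2 (T.ne_bot_of_dvd_card hlM)
    obtain ⟨W', hW', hW'v⟩ := ih _ hlt _ rfl ((Subgroup.map_subtype_le _).trans hML)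
    refine ⟨W', hW', fun v hv ⟨i, hi⟩ => hW'v v ⟨⟨v, hv⟩, ?_, rfl⟩ ⟨i, hi⟩⟩
    rw [SetLike.mem_coe, MonoidHom.mem_ker]
    refine orderOf_eq_one_iff.1 (Nat.dvd_one.1 ?_)
    obtain ⟨j, hj⟩ := IsPGroup.iff_card.1 T.isPGroup'
    have hcop : Nat.Coprime (p ^ i) (l ^ j) :=
      (((Nat.coprime_primes hl S.hp).2 hlp).symm.pow_left i).pow_right j
    rw [← hcop.gcd_eq_one]
    exact Nat.dvd_gcd (orderOf_dvd_of_pow_eq_one (by
      rw [← map_pow, show (⟨v, hv⟩ : M) ^ p ^ i = 1 from Subtype.ext hi, map_one]))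
      (hj ▸ orderOf_dvd_natCard _)

theorem CentSylow.sylow_comm (P : Sylow p Q) {x y : Q} (hx : x ∈ (P : Subgroup Q))
    (hy : y ∈ (P : Subgroup Q)) : x * y = y * x := by
  classical
  haveI := Fact.mk S.hp
  rcases S.hd with ⟨-, hp2⟩ | ⟨-, hp2⟩
  · -- exponent two
    have hsq : ∀ z ∈ (P : Subgroup Q), z * z = 1 := fun z hz => by
      have := S.pow_p (S.exists_pow P hz)
      rwa [hp2, pow_two] at this
    calc x * y = (x * y)⁻¹ := eq_inv_of_mul_eq_one_left (hsq _ (mul_mem hx hy))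
      _ = y⁻¹ * x⁻¹ := mul_inv_rev x y
      _ = y * x := by
        rw [inv_eq_of_mul_eq_one_right (hsq y hy), inv_eq_of_mul_eq_one_right (hsq x hx)]
  by_contra hne
  have hxk : x ∉ kern P := fun h => hne (Subgroup.mem_centralizer_iff.1 h.2 y hy).symm
  have hx1 : x ≠ 1 := fun e => hxk (e ▸ one_mem _)
  obtain ⟨R, hR⟩ := S.exists_sylow hx1 (S.exists_pow P hx)
  have hex : ∃ a : Sylow p Q × Sylow p Q, a.1 ≠ a.2 ∧ (a.1 : Subgroup Q) ⊓ a.2 ≠ ⊥ :=
    ⟨⟨P, R⟩, fun e => hxk (S.mem_kern (hR.symm.trans (congrArg Sylow.toSubgroup (e : P = R).symm))),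
      fun e => hx1 ((Subgroup.mem_bot).1 (e ▸ ⟨hx, hR ▸ Subgroup.mem_centralizer_singleton_iff.2 rfl⟩))⟩
  haveI := Fintype.ofFinite (Sylow p Q)
  obtain ⟨⟨A, B⟩, hAB, hmax⟩ := Finset.exists_max_image
    (Finset.univ.filter fun a : Sylow p Q × Sylow p Q => a.1 ≠ a.2 ∧ (a.1 : Subgroup Q) ⊓ a.2 ≠ ⊥)
    (fun a => Nat.card ((a.1 : Subgroup Q) ⊓ a.2 : Subgroup Q))
    ⟨hex.choose, by simpa using hex.choose_spec⟩
  obtain ⟨hne', hD1⟩ : A ≠ B ∧ (A : Subgroup Q) ⊓ B ≠ ⊥ := by simpa using hAB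
  set D := (A : Subgroup Q) ⊓ B with hD
  have hDp : IsPGroup p D := A.isPGroup'.to_le inf_le_left
  set V := D ⊓ Subgroup.centralizer (D : Set Q) with hV
  haveI : IsMulCommutative V := ⟨⟨fun a b => Subtype.ext (Subgroup.mem_centralizer_iff.1 b.2.2 a a.2.1)⟩⟩
  have hV1 : V ≠ ⊥ := by
    haveI : Nontrivial D := (Subgroup.nontrivial_iff_ne_bot _).2 hD1
    obtain ⟨⟨z, hzD⟩, hz, hz1⟩ := (Subgroup.bot_or_exists_ne_one _).resolve_left hDp.bot_lt_center.ne'
    intro e
    have hm : z ∈ V := ⟨hzD, Subgroup.mem_centralizer_iff.2 fun u hu =>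
      congrArg Subtype.val (Subgroup.mem_center_iff.1 hz ⟨u, hu⟩)⟩
    rw [e, Subgroup.mem_bot] at hm
    exact hz1 (Subtype.ext hm)
  set L := Subgroup.normalizer (D : Set Q) with hL
  have hLV : L ≤ Subgroup.normalizer (V : Set Q) := by
    intro n hn
    refine Subgroup.inf_normalizer_le_normalizer_inf (Subgroup.mem_inf.2 ⟨hn, ?_⟩)
    rw [Subgroup.mem_normalizer_iff]
    intro z
    simp only [Subgroup.mem_centralizer_iff, SetLike.mem_coe]
    constructor
    · intro hz u hu
      have := hz _ ((Subgroup.mem_normalizer_iff''.1 hn u).1 hu)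
      calc u * (n * z * n⁻¹) = n * (n⁻¹ * u * n * z) * n⁻¹ := by group
        _ = n * (z * (n⁻¹ * u * n)) * n⁻¹ := by rw [this]
        _ = n * z * n⁻¹ * u := by group
    · intro hz u hu
      have := hz _ ((Subgroup.mem_normalizer_iff.1 hn u).1 hu)
      calc u * z = n⁻¹ * (n * u * n⁻¹ * (n * z * n⁻¹)) * n := by group
        _ = n⁻¹ * (n * z * n⁻¹ * (n * u * n⁻¹)) * n := by rw [this]
        _ = z * u := by group
  obtain ⟨W, hW, hWv⟩ := S.sylow_normal_of_abelian hp2 (hDp.to_le inf_le_left) hV1 hLV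
  obtain ⟨C, hC⟩ := hW.exists_le_sylow
  -- both Sylow subgroups grow in `L`
  have hgrow : ∀ X : Sylow p Q, D < (X : Subgroup Q) → X = C := by
    intro X hlt
    by_contra hXC
    have hnil : Group.IsNilpotent (X : Subgroup Q) := X.isPGroup'.isNilpotent
    have hlt' : D.subgroupOf (X : Subgroup Q) < ⊤ := by
      rw [lt_top_iff_ne_top, Ne, Subgroup.subgroupOf_eq_top]
      exact hlt.not_ge
    obtain ⟨⟨u, huX⟩, hun, hu⟩ := SetLike.exists_of_lt
      (Group.normalizerCondition_of_isNilpotent (h := hnil) _ hlt')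
    rw [Subgroup.mem_subgroupOf] at hu
    have huL : u ∈ L := by
      rw [hL, Subgroup.mem_normalizer_iff]
      intro z
      constructor
      · intro hz
        exact (Subgroup.mem_normalizer_iff.1 hun ⟨z, hlt.le hz⟩).1 hz
      · intro hz
        have hzX : z ∈ (X : Subgroup Q) := by
          simpa [mul_assoc] using mul_mem (mul_mem (inv_mem huX) (hlt.le hz)) huX
        exact (Subgroup.mem_normalizer_iff.1 hun ⟨z, hzX⟩).2 hz
    have hle : D ⊔ Subgroup.zpowers u ≤ (X : Subgroup Q) ⊓ C := by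
      refine sup_le (fun z hz => ⟨hlt.le hz, hC (hWv z (Subgroup.le_normalizer hz) ?_)⟩) ?_
      · exact S.exists_pow X (hlt.le hz)
      · rw [Subgroup.zpowers_le]
        exact ⟨huX, hC (hWv u huL (S.exists_pow X huX))⟩
    have hlt2 : D < (X : Subgroup Q) ⊓ C := lt_of_lt_of_le
      (lt_of_le_of_ne le_sup_left fun e => hu (e.symm ▸ Subgroup.mem_sup_right (Subgroup.mem_zpowers u))) hle
    have h1 := hmax (X, C) (by
      simp only [Finset.mem_filter, Finset.mem_univ, true_and]
      exact ⟨hXC, fun e => hD1 (le_bot_iff.1 (e ▸ hlt2.le))⟩)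
    exact absurd (Subgroup.eq_of_le_of_card_ge hlt2.le h1) hlt2.ne
  have hcard : ∀ X Y : Sylow p Q, (X : Subgroup Q) ≤ Y → X = Y := fun X Y h =>
    Sylow.ext (Subgroup.eq_of_le_of_card_ge h (by rw [S.card_sylow X, S.card_sylow Y]))
  refine hne' ((hgrow A (lt_of_le_of_ne inf_le_left fun e => hne' (hcard A B ?_))).trans
    (hgrow B (lt_of_le_of_ne inf_le_right fun e => hne' (hcard B A ?_).symm)).symm)
  · exact inf_eq_left.1 e
  · exact inf_eq_right.1 e

end Cfsg.Agent.ClassSizePSL
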