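import Mathlib
import Cfsg.Agent.S2508
import Cfsg.Agent.Lib.Classical.SylowSL2
import Cfsg.Agent.Lib.PSLOrderSpectrum.Main

/-!
# Facts on `PSL₂(q)`, `q` odd
-/

set_option autoImplicit false
set_option linter.unusedSectionVars false
set_option linter.unusedVariables false
set_option linter.style.haveILetI false

open Matrix
open scoped MatrixGroups

namespace Cfsg.Agent.ClassSizePSL.PSL

open Cfsg.Agent.GL2 Classes Counts PSLProducts PSLClassSizes

variable {F : Type*} [Field F] [Fintype F]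

local notation "PSL" => Matrix.ProjectiveSpecialLinearGroup (Fin 2) F

theorem values_odd (hodd : ¬ 2 ∣ Fintype.card F) (h7 : 7 ≤ Fintype.card F) {m k : ℕ}
    (hrel : (4 * m + 1 = Fintype.card F ∧ 2 * k = Fintype.card F + 1) ∨
      (4 * m = Fintype.card F + 1 ∧ 2 * k + 1 = Fintype.card F)) :
    Set.range (fun g : PSL => (Subgroup.centralizer ({g} : Set PSL)).index) =
      {1, 4 * m * k, k * Fintype.card F, 4 * m * Fintype.card F, 2 * k * Fintype.card F} := by
  obtain ⟨h1, h3⟩ := S2508.result (F := F) hodd h7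
  set q := Fintype.card F with hq
  have hA : (q ^ 2 - 1) / 2 = 4 * m * k := by
    refine Nat.div_eq_of_eq_mul_left two_pos ?_
    rw [show q ^ 2 - 1 = (q + 1) * (q - 1) by rw [← Nat.sq_sub_sq, one_pow]]
    rcases hrel with ⟨e, e'⟩ | ⟨e, e'⟩
    · rw [show q - 1 = 4 * m by omega, ← e']; ring
    · rw [show q - 1 = 2 * k by omega, ← e]; ring
  rcases hrel with ⟨e, e'⟩ | ⟨e, e'⟩
  · rw [h1 (by omega), hA, show q * (q + 1) / 2 = k * q from
      Nat.div_eq_of_eq_mul_left two_pos (by rw [← e']; ring),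
      show q - 1 = 4 * m by omega, show q * (4 * m) = 4 * m * q from mul_comm _ _,
      show q * (q + 1) = 2 * k * q by rw [← e']; ring]
  · rw [h3 (by omega), hA, show q - 1 = 2 * k by omega, show q * (2 * k) / 2 = k * q from
      Nat.div_eq_of_eq_mul_left two_pos (by ring),
      show q * (2 * k) = 2 * k * q from mul_comm _ _,
      show q * (q + 1) = 4 * m * q by rw [← e]; ring]

theorem card_pre (hodd : ¬ 2 ∣ Fintype.card F) (g : SL(2, F)) :
    Nat.card (pre g) = 2 * Nat.card (Subgroup.centralizer ({toPSL g} : Set PSL)) := by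
  have h1 := index_pre g
  have h2 := PSLOrderSpectrum.card_psl_two (F := F)
  rw [show Nat.gcd 2 (Fintype.card F - 1) = 2 from Nat.gcd_eq_left (by omega),
    ← Subgroup.card_mul_index (Subgroup.centralizer ({toPSL g} : Set PSL)), ← h1] at h2
  refine Nat.eq_of_mul_eq_mul_left (Nat.pos_of_ne_zero
    (Subgroup.index_ne_zero_of_finite (H := Subgroup.centralizer ({toPSL g} : Set PSL)))) ?_
  rw [← h2]; ring

theorem card_centralizer (hodd : ¬ 2 ∣ Fintype.card F) (g : SL(2, F))
    (hg : ¬ IsScalar (g : Matrix (Fin 2) (Fin 2) F)) :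
    ((g : Matrix (Fin 2) (Fin 2) F).trace = 0 ∧
      (Nat.card (Subgroup.centralizer ({toPSL g} : Set PSL)) = Fintype.card F - 1 ∨
        Nat.card (Subgroup.centralizer ({toPSL g} : Set PSL)) = Fintype.card F + 1)) ∨
    ((g : Matrix (Fin 2) (Fin 2) F).trace ≠ 0 ∧
      (2 * Nat.card (Subgroup.centralizer ({toPSL g} : Set PSL)) = Fintype.card F - 1 ∨
        2 * Nat.card (Subgroup.centralizer ({toPSL g} : Set PSL)) = Fintype.card F + 1 ∨
        Nat.card (Subgroup.centralizer ({toPSL g} : Set PSL)) = Fintype.card F)) := by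
  classical
  have h2 : (2 : F) ≠ 0 := Counts.two_ne_zero_of_odd (Nat.odd_iff.2 (by omega))
  have hfour : (4 : F) ≠ 0 := by rw [show (4 : F) = 2 * 2 by norm_num]; exact mul_ne_zero h2 h2
  have hp := card_pre hodd g
  set t := (g : Matrix (Fin 2) (Fin 2) F).trace with ht
  by_cases h4 : t ^ 2 = 4
  · have ht0 : t ≠ 0 := fun e => hfour (by rw [← h4, e]; ring)
    refine Or.inr ⟨ht0, Or.inr (Or.inr ?_)⟩
    rw [pre_eq_of_trace g (Or.inr ht0),
      natCard_centralizer_SL_parabolic g hg (s := t / 2)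
        (by rw [div_pow, h4, div_eq_one_iff_eq (pow_ne_zero 2 h2)]; norm_num)
        (by rw [mul_div_cancel₀ _ h2]),
      sq_eq_one_card_odd h2] at hp
    omega
  by_cases hr : ∃ r, r ^ 2 - t * r + 1 = 0
  · obtain ⟨r, hr⟩ := hr
    by_cases h0 : t = 0
    · rw [natCard_pre_of_trace_zero g h2 h0, natCard_centralizer_split g h4 hr] at hp
      exact Or.inl ⟨h0, Or.inl (by omega)⟩
    · rw [pre_eq_of_trace g (Or.inr h0), natCard_centralizer_split g h4 hr] at hp
      exact Or.inr ⟨h0, Or.inl (by omega)⟩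
  · by_cases h0 : t = 0
    · rw [natCard_pre_of_trace_zero g h2 h0, natCard_centralizer_elliptic_SL g (not_exists.1 hr)] at hp
      exact Or.inl ⟨h0, Or.inr (by omega)⟩
    · rw [pre_eq_of_trace g (Or.inr h0), natCard_centralizer_elliptic_SL g (not_exists.1 hr)] at hp
      exact Or.inr ⟨h0, Or.inr (Or.inl (by omega))⟩

/-- A dihedral subgroup of order `4 m` is the centraliser of its central involution. -/
theorem dihedral_of_hom {C : Type*} [Group C] [IsCyclic C] [Finite C] (T : C →* SL(2, F))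
    (hT : Function.Injective T) (y : SL(2, F))
    (hy : (y : Matrix (Fin 2) (Fin 2) F) * (y : Matrix (Fin 2) (Fin 2) F) = -1)
    (hconj : ∀ c, y * T c * y⁻¹ = T c⁻¹) (hodd : ¬ 2 ∣ Fintype.card F) (h7 : 7 ≤ Fintype.card F)
    {m k : ℕ} (hcard : Nat.card C = 4 * m)
    (hrel : (4 * m + 1 = Fintype.card F ∧ 2 * k = Fintype.card F + 1) ∨
      (4 * m = Fintype.card F + 1 ∧ 2 * k + 1 = Fintype.card F)) :
    ∃ t w : PSL, orderOf t = 2 * m ∧ w * w = 1 ∧ w * t * w⁻¹ = t⁻¹ ∧
      Subgroup.centralizer ({t ^ m} : Set PSL) = Subgroup.closure {t, w} ∧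
      Nat.card (Subgroup.centralizer ({t ^ m} : Set PSL)) = 4 * m ∧
      ∀ x : PSL, Nat.card (Subgroup.centralizer ({x} : Set PSL)) = 4 * m → IsConj x (t ^ m) := by
  have h2 : (2 : F) ≠ 0 := Counts.two_ne_zero_of_odd (Nat.odd_iff.2 (by omega))
  have hm : 2 ≤ m := by omega
  obtain ⟨g, hg⟩ := IsCyclic.exists_ofOrder_eq_natCard (α := C)
  rw [hcard] at hg
  have hsc : ∀ c : C, toPSL (T c) = 1 → c * c = 1 := by
    intro c hc
    obtain ⟨a, ha2, ha⟩ := isScalar_SL ((toPSL_eq_one_iff _).1 hc)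
    refine hT (by rw [map_one, map_mul]; refine Subtype.ext ?_; show _ = (1 : Matrix (Fin 2) (Fin 2) F)
                  rw [Matrix.SpecialLinearGroup.coe_mul, ha, Matrix.smul_mul, Matrix.one_mul, smul_smul,
                    ← pow_two, ha2, one_smul])
  have hneg : ∀ c : C, c * c = 1 → c ≠ 1 → ((T c : SL(2, F)) : Matrix (Fin 2) (Fin 2) F) = -1 :=
    fun c hc hc1 => Classical.SylowSL2.eq_neg_one_of_sq h2 _ (fun e => hc1 (hT (e.trans (map_one T).symm)))
      (by rw [← map_mul, hc, map_one])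
  set t : PSL := toPSL (T g) with ht
  have hpow : ∀ i : ℕ, t ^ i = toPSL (T (g ^ i)) := fun i => by
    rw [map_pow, ht]; exact (QuotientGroup.mk_pow _ _ _).symm
  have hg2m : g ^ (2 * m) * g ^ (2 * m) = 1 := by
    rw [← pow_add, show 2 * m + 2 * m = orderOf g by omega, pow_orderOf_eq_one]
  have hg2m1 : g ^ (2 * m) ≠ 1 := pow_ne_one_of_lt_orderOf (by omega) (by omega)
  have hto : orderOf t = 2 * m := by
    refine Nat.dvd_antisymm (orderOf_dvd_of_pow_eq_one ?_) ?_
    · rw [hpow]
      exact (toPSL_eq_one_iff _).2 ⟨-1, by rw [hneg _ hg2m hg2m1]; simp⟩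
    · have h := hsc (g ^ orderOf t) (by rw [← hpow, pow_orderOf_eq_one])
      rw [← pow_add] at h
      have := orderOf_dvd_of_pow_eq_one h
      rw [hg, ← two_mul, show 4 * m = 2 * (2 * m) by ring] at this
      exact Nat.dvd_of_mul_dvd_mul_left two_pos this
  set w : PSL := toPSL y with hw
  have hww : w * w = 1 := by
    rw [hw, ← QuotientGroup.mk_mul]
    exact (toPSL_eq_one_iff _).2 ⟨-1, by rw [Matrix.SpecialLinearGroup.coe_mul, hy]; simp⟩
  have hwt : w * t * w⁻¹ = t⁻¹ := by
    rw [hw, ht, ← QuotientGroup.mk_inv, ← QuotientGroup.mk_mul, ← QuotientGroup.mk_mul, hconj,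
      map_inv, QuotientGroup.mk_inv]
  -- the trace of the element of order four vanishes
  set X := T (g ^ m) with hX
  have hX2 : (X : Matrix (Fin 2) (Fin 2) F) * X = -1 := by
    rw [← Matrix.SpecialLinearGroup.coe_mul, hX, ← map_mul, ← pow_add, ← two_mul]
    exact hneg _ hg2m hg2m1
  have htr : (X : Matrix (Fin 2) (Fin 2) F).trace = 0 := by
    by_contra h0
    have h := cayley X
    rw [hX2, eq_sub_iff_add_eq, neg_add_cancel] at h
    rw [eq_comm, smul_eq_zero] at h
    have h' := h.resolve_left h0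
    rw [h', mul_zero] at hX2
    exact one_ne_zero (neg_eq_zero.1 hX2.symm)
  have htm : t ^ m = toPSL X := hpow m
  have htm1 : t ^ m ≠ 1 := pow_ne_one_of_lt_orderOf (by omega) (by omega)
  have htm2 : t ^ m * t ^ m = 1 := by rw [← pow_add, ← two_mul, ← hto, pow_orderOf_eq_one]
  have hwtm : w * t ^ m = t ^ m * w := by
    have h : w * t ^ m * w⁻¹ = t ^ m := by
      rw [← conj_pow, hwt, inv_pow, inv_eq_of_mul_eq_one_right htm2]
    exact mul_inv_eq_iff_eq_mul.1 h
  set H := Subgroup.closure ({t, w} : Set PSL) with hH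
  have hle : H ≤ Subgroup.centralizer ({t ^ m} : Set PSL) := by
    rw [hH, Subgroup.closure_le]
    intro z hz
    rcases hz with rfl | rfl
    · exact Subgroup.mem_centralizer_singleton_iff.2 (Commute.self_pow t m).eq
    · exact Subgroup.mem_centralizer_singleton_iff.2 hwtm
  have hlt : Subgroup.zpowers t < H := by
    refine lt_of_le_of_ne (Subgroup.zpowers_le.2 (Subgroup.subset_closure (by simp))) fun e => ?_
    have hwz : w ∈ Subgroup.zpowers t := e ▸ Subgroup.subset_closure (by simp)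
    obtain ⟨i, hi⟩ := hwz
    have hc : Commute w t := hi ▸ Commute.zpow_self t i
    rw [hc.eq, mul_inv_cancel_right] at hwt
    have h2' : t ^ 2 = 1 := by rw [pow_two]; exact eq_inv_iff_mul_eq_one.1 hwt
    have := Nat.le_of_dvd two_pos (orderOf_dvd_of_pow_eq_one h2')
    omega
  obtain ⟨c, hc⟩ := Subgroup.card_dvd_of_le hlt.le
  rw [Nat.card_zpowers, hto] at hc
  have hc2 : 2 ≤ c := by
    rcases c with _ | _ | c
    · rw [mul_zero] at hc; exact absurd hc Nat.card_pos.ne'
    · exact absurd (Subgroup.eq_of_le_of_card_ge hlt.le (by rw [hc, Nat.card_zpowers, hto]; simp)) hlt.ne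
    · omega
  have hns : ¬ IsScalar (X : Matrix (Fin 2) (Fin 2) F) := fun h =>
    htm1 (htm.trans ((toPSL_eq_one_iff _).2 h))
  obtain ⟨d, hd⟩ := Subgroup.card_dvd_of_le hle
  rw [hc] at hd
  have hC4 : Nat.card (Subgroup.centralizer ({t ^ m} : Set PSL)) = 4 * m := by
    rcases card_centralizer hodd X hns with ⟨-, h⟩ | ⟨h, -⟩
    · rw [← htm] at h
      have hcases : Nat.card (Subgroup.centralizer ({t ^ m} : Set PSL)) = 4 * m ∨
          Nat.card (Subgroup.centralizer ({t ^ m} : Set PSL)) = 2 * k := by omega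
      refine hcases.resolve_right fun e => ?_
      have hdiv : 2 * m ∣ 2 * k := e ▸ hd ▸ (dvd_mul_right (2 * m) c).mul_right d
      obtain ⟨a, ha⟩ := hdiv
      have h3 : 2 * m * a + 2 = 4 * m ∨ 4 * m + 2 = 2 * m * a := by omega
      rcases h3 with h3 | h3
      · have : 2 * m ∣ 2 := (Nat.dvd_add_right (dvd_mul_right (2 * m) a)).1 (h3.symm ▸ ⟨2, by ring⟩)
        have := Nat.le_of_dvd two_pos this
        omega
      · have : 2 * m ∣ 2 := (Nat.dvd_add_right (⟨2, by ring⟩ : 2 * m ∣ 4 * m)).1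
          (h3.symm ▸ dvd_mul_right (2 * m) a)
        have := Nat.le_of_dvd two_pos this
        omega
    · exact absurd htr h
  refine ⟨t, w, hto, hww, hwt, (Subgroup.eq_of_le_of_card_ge hle ?_).symm, hC4, fun x hx => ?_⟩
  · rw [hC4, hc, show 4 * m = 2 * m * 2 by ring]
    exact Nat.mul_le_mul_left _ hc2
  obtain ⟨u, rfl⟩ := QuotientGroup.mk_surjective x
  have hus : ¬ IsScalar (u : Matrix (Fin 2) (Fin 2) F) := fun h => by
    have e : (Subgroup.centralizer ({toPSL u} : Set PSL)) = ⊤ := by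
      rw [(toPSL_eq_one_iff _).2 h, Subgroup.centralizer_eq_top_iff_subset]; simp
    have h2 := PSLOrderSpectrum.card_psl_two (F := F)
    rw [show Nat.gcd 2 (Fintype.card F - 1) = 2 from Nat.gcd_eq_left (by omega),
      show Nat.card PSL = 4 * m by rw [← Subgroup.card_top, ← e]; exact hx] at h2
    have hle' : Fintype.card F * 12 ≤ Fintype.card F * ((Fintype.card F - 1) * (Fintype.card F + 1)) :=
      Nat.mul_le_mul_left _ (le_trans (by norm_num) (Nat.mul_le_mul (show 2 ≤ _ by omega) (show 6 ≤ _ by omega)))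
    omega
  rcases card_centralizer hodd u hus with ⟨h0, -⟩ | ⟨-, h⟩
  · rw [htm]
    exact MonoidHom.map_isConj (QuotientGroup.mk' (Subgroup.center SL(2, F)))
      (isConj_of_trace (h0.trans htr.symm) (by
        rw [h0, zero_pow two_ne_zero]
        exact fun e => h2 ((pow_eq_zero_iff two_ne_zero).1 (by linear_combination -e))))
  · change Nat.card (Subgroup.centralizer ({toPSL u} : Set PSL)) = 4 * m at hx
    omega

theorem exists_dihedral (hodd : ¬ 2 ∣ Fintype.card F) (h7 : 7 ≤ Fintype.card F) {m k : ℕ}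
    (hrel : (4 * m + 1 = Fintype.card F ∧ 2 * k = Fintype.card F + 1) ∨
      (4 * m = Fintype.card F + 1 ∧ 2 * k + 1 = Fintype.card F)) :
    ∃ t w : PSL, orderOf t = 2 * m ∧ w * w = 1 ∧ w * t * w⁻¹ = t⁻¹ ∧
      Subgroup.centralizer ({t ^ m} : Set PSL) = Subgroup.closure {t, w} ∧
      Nat.card (Subgroup.centralizer ({t ^ m} : Set PSL)) = 4 * m ∧
      ∀ x : PSL, Nat.card (Subgroup.centralizer ({x} : Set PSL)) = 4 * m → IsConj x (t ^ m) := by
  rcases id hrel with ⟨e, -⟩ | ⟨e, -⟩
  · let y : SL(2, F) := ⟨!![0, 1; -1, 0], by simp [det_fin_two]⟩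
    refine dihedral_of_hom (Classical.Torus.diagHom (F := F)) Classical.Torus.diagHom_injective y ?_ ?_
      hodd h7 (by rw [Classical.Linear.natCard_units_eq]; omega) hrel
    · show !![(0 : F), 1; -1, 0] * !![0, 1; -1, 0] = -1
      ext i j; fin_cases i <;> fin_cases j <;> simp
    · intro c
      rw [mul_inv_eq_iff_eq_mul]
      refine Classical.GL2.sl_ext ?_
      show !![(0 : F), 1; -1, 0] * !![(c : F), 0; 0, (c⁻¹ : Fˣ)] =
        !![((c⁻¹ : Fˣ) : F), 0; 0, ((c⁻¹)⁻¹ : Fˣ)] * !![0, 1; -1, 0]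
      simp
  · obtain ⟨A, hA⟩ := Classical.Torus.exists_irreducible F
    have : Fact (∀ r : F, r ^ 2 ≠ A + 1 * r) := ⟨hA⟩
    obtain ⟨c, hc⟩ := Classical.Torus.norm_surjective (A := A) (B := 1) (-1 : F) (by norm_num)
    let y : SL(2, F) := ⟨Classical.Torus.mulMat c * Classical.Torus.starMat 1, by
      rw [det_mul, Classical.Torus.det_mulMat, Classical.Torus.det_starMat, hc]; norm_num⟩
    refine dihedral_of_hom (Classical.Torus.torusHom (A := A) (B := 1)) Classical.Torus.torusHom_injective y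
      ?_ ?_ hodd h7 (by rw [Classical.Torus.natCard_normOne]; omega) hrel
    · show Classical.Torus.mulMat c * Classical.Torus.starMat 1 *
        (Classical.Torus.mulMat c * Classical.Torus.starMat 1) = -1
      rw [mul_assoc, ← mul_assoc (Classical.Torus.starMat 1), Classical.Torus.starMat_mul_mulMat, mul_assoc,
        Classical.Torus.starMat_mul_starMat, mul_one, ← map_mul,
        ← QuadraticAlgebra.algebraMap_norm_eq_mul_star, hc, Classical.Torus.mulMat_apply]
      ext i j; fin_cases i <;> fin_cases j <;>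
        simp [QuadraticAlgebra.re_one, QuadraticAlgebra.im_one]
    · intro z
      rw [mul_inv_eq_iff_eq_mul]
      refine Classical.GL2.sl_ext ?_
      exact Classical.SylowSL2.torus_conj c z

end Cfsg.Agent.ClassSizePSL.PSL
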