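import Mathlib
import Cfsg.Agent.Lib.CharTheory.QuasiElementary

/-!
# Centralisers modulo the centre and isolated class sizes
-/

set_option autoImplicit false
set_option linter.unusedSectionVars false
set_option linter.unusedVariables false
set_option linter.style.haveILetI false

namespace Cfsg.Agent.ClassSizePSL

open scoped Pointwise

universe u

variable {G : Type u} [Group G] [Finite G]

/-- The class size of `g`. -/
noncomputable def idx (g : G) : ℕ := (Subgroup.centralizer ({g} : Set G)).index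

/-- The image of the centraliser of `g` in the central quotient. -/
def img (g : G) : Subgroup (G ⧸ Subgroup.center G) :=
  (Subgroup.centralizer ({g} : Set G)).map (QuotientGroup.mk' (Subgroup.center G))

theorem center_le (g : G) : Subgroup.center G ≤ Subgroup.centralizer ({g} : Set G) := fun z hz =>
  Subgroup.mem_centralizer_singleton_iff.2 (Subgroup.mem_center_iff.1 hz g).symm

theorem idx_eq_one_iff (g : G) : idx g = 1 ↔ g ∈ Subgroup.center G := by
  rw [idx, Subgroup.index_eq_one, Subgroup.centralizer_eq_top_iff_subset, Set.singleton_subset_iff,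
    SetLike.mem_coe]

theorem idx_mul (g : G) : idx g * Nat.card (img g) = Nat.card (G ⧸ Subgroup.center G) := by
  have h : (img g).index = idx g := by
    rw [img, Subgroup.index_map, MonoidHom.range_eq_top.2 (QuotientGroup.mk'_surjective _),
      QuotientGroup.ker_mk', sup_eq_left.2 (center_le g), Subgroup.index_top, mul_one, idx]
  rw [← h, mul_comm, Subgroup.card_mul_index]

theorem mk_mem_img {g x : G} :
    ((x : G ⧸ Subgroup.center G)) ∈ img g ↔ x * g = g * x := by
  rw [← Subgroup.mem_centralizer_singleton_iff]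
  constructor
  · rintro ⟨y, hy, e⟩
    have h2 := center_le g (QuotientGroup.eq.1 e)
    simpa using mul_mem hy h2
  · exact fun h => ⟨x, h, rfl⟩

theorem img_le_centralizer (g : G) :
    img g ≤ Subgroup.centralizer ({(g : G ⧸ Subgroup.center G)} : Set (G ⧸ Subgroup.center G)) := by
  rintro _ ⟨y, hy, rfl⟩
  rw [Subgroup.mem_centralizer_singleton_iff]
  exact congrArg (QuotientGroup.mk' (Subgroup.center G)) (Subgroup.mem_centralizer_singleton_iff.1 hy)

theorem centralizer_le_of_mem_zpowers {g u : G} (hu : u ∈ Subgroup.zpowers g) :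
    Subgroup.centralizer ({g} : Set G) ≤ Subgroup.centralizer ({u} : Set G) := fun x hx => by
  obtain ⟨i, rfl⟩ := hu
  exact Subgroup.mem_centralizer_singleton_iff.2
    (Commute.zpow_right (Subgroup.mem_centralizer_singleton_iff.1 hx) i)

theorem mem_zpowers_mul {u v : G} (hc : Commute u v) (hco : Nat.Coprime (orderOf u) (orderOf v)) :
    u ∈ Subgroup.zpowers (u * v) := by
  have h1 : (u * v) ^ orderOf v = u ^ orderOf v := by
    rw [hc.mul_pow, pow_orderOf_eq_one, mul_one]
  rcases (Nat.one_le_iff_ne_zero.2 (orderOf_pos u).ne').eq_or_lt with ho | ho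
  · rw [orderOf_eq_one_iff.1 ho.symm]; exact one_mem _
  obtain ⟨t, -, ht⟩ := Nat.exists_mul_mod_eq_one_of_coprime hco.symm ho
  refine ⟨((orderOf v * t : ℕ) : ℤ), ?_⟩
  show (u * v) ^ ((orderOf v * t : ℕ) : ℤ) = u
  rw [zpow_natCast, pow_mul, h1, ← pow_mul, ← pow_mod_orderOf, ht, pow_one]

theorem coprime_of_pow {x y : G} {l r i j : ℕ} (hlr : Nat.Coprime l r) (hx : x ^ l ^ i = 1)
    (hy : y ^ r ^ j = 1) : Nat.Coprime (orderOf x) (orderOf y) :=
  (((hlr.pow_left i).pow_right j).coprime_dvd_left (orderOf_dvd_of_pow_eq_one hx)).coprime_dvd_right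
    (orderOf_dvd_of_pow_eq_one hy)

/-- Lifting an `l`-element of the central quotient to an `l`-element. -/
theorem exists_lift {l : ℕ} (hl : l.Prime) (x : G ⧸ Subgroup.center G) (hx : ∃ i, x ^ l ^ i = 1) :
    ∃ y : G, (y : G ⧸ Subgroup.center G) = x ∧ ∃ i, y ^ l ^ i = 1 := by
  obtain ⟨g, rfl⟩ := QuotientGroup.mk_surjective x
  obtain ⟨u, v, rfl, huv, -, hv, ⟨a, ha⟩, hco⟩ := CharTheory.QuasiElementary.exists_pPart_decomp g hl
  refine ⟨v, ?_, a, by rw [← ha, pow_orderOf_eq_one]⟩
  obtain ⟨i, hi⟩ := hx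
  obtain ⟨k, hk⟩ := hv
  have hvi : (v : G ⧸ Subgroup.center G) ^ l ^ i = 1 := by
    simp only at hk
    rw [← hk, QuotientGroup.mk_zpow, ← zpow_natCast, ← zpow_mul, mul_comm, zpow_mul, zpow_natCast, hi,
      one_zpow]
  have hui : (u : G ⧸ Subgroup.center G) ^ l ^ i = 1 := by
    have hc : Commute (u : G ⧸ Subgroup.center G) (v : G ⧸ Subgroup.center G) := by
      exact huv.map (QuotientGroup.mk' _)
    rw [QuotientGroup.mk_mul, hc.mul_pow, hvi, mul_one] at hi
    exact hi
  have hu1 : (u : G ⧸ Subgroup.center G) = 1 :=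
    orderOf_eq_one_iff.1 (((hco.pow_right i).coprime_dvd_left
      (orderOf_map_dvd (QuotientGroup.mk' _) u)).eq_one_of_dvd (orderOf_dvd_of_pow_eq_one hui))
  rw [QuotientGroup.mk_mul, hu1, one_mul]

/-- Elements of coprime orders commuting modulo the centre commute. -/
theorem commute_of_coprime {x y : G} (hco : Nat.Coprime (orderOf x) (orderOf y))
    (h : (x : G ⧸ Subgroup.center G) * y = (y : G ⧸ Subgroup.center G) * x) : x * y = y * x := by
  set z := (y * x)⁻¹ * (x * y) with hz
  have hzc : z ∈ Subgroup.center G := QuotientGroup.eq.1 h.symm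
  have hcom : ∀ a, Commute z a := fun a => (Subgroup.mem_center_iff.1 hzc a).symm
  have e1 : x * y * x⁻¹ = y * z := by
    calc x * y * x⁻¹ = y * x * z * x⁻¹ := by rw [hz, mul_inv_cancel_left]
      _ = y * (x * z) * x⁻¹ := by group
      _ = y * (z * x) * x⁻¹ := by rw [(hcom x).eq]
      _ = y * z := by group
  have hy : z ^ orderOf y = 1 := by
    have := congrArg (· ^ orderOf y) e1
    simp only [conj_pow, pow_orderOf_eq_one, mul_one, mul_inv_cancel, (hcom y).symm.mul_pow, one_mul] at this
    exact this.symm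
  have e2 : y⁻¹ * x * y = x * z := by rw [hz]; group
  have hx : z ^ orderOf x = 1 := by
    have := congrArg (· ^ orderOf x) e2
    have e3 : (y⁻¹ * x * y) ^ orderOf x = y⁻¹ * x ^ orderOf x * y := by
      simpa using conj_pow (i := orderOf x) (a := y⁻¹) (b := x)
    simp only [e3, pow_orderOf_eq_one, mul_one, inv_mul_cancel, (hcom x).symm.mul_pow, one_mul] at this
    exact this.symm
  have hz1 : z = 1 := orderOf_eq_one_iff.1 (Nat.dvd_one.1 (hco.gcd_eq_one ▸
    Nat.dvd_gcd (orderOf_dvd_of_pow_eq_one hx) (orderOf_dvd_of_pow_eq_one hy)))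
  rw [hz, inv_mul_eq_one] at hz1
  exact hz1.symm

theorem idx_conj (k g : G) : idx (k * g * k⁻¹) = idx g := by
  have h : Subgroup.centralizer ({k * g * k⁻¹} : Set G) =
      (Subgroup.centralizer ({g} : Set G)).map (MulAut.conj k).toMonoidHom := by
    ext x
    rw [Subgroup.mem_map_equiv, Subgroup.mem_centralizer_singleton_iff,
      Subgroup.mem_centralizer_singleton_iff, MulAut.conj_symm_apply]
    constructor <;> intro e
    · calc k⁻¹ * x * k * g = k⁻¹ * (x * (k * g * k⁻¹)) * k := by group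
        _ = k⁻¹ * (k * g * k⁻¹ * x) * k := by rw [e]
        _ = g * (k⁻¹ * x * k) := by group
    · calc x * (k * g * k⁻¹) = k * (k⁻¹ * x * k * g) * k⁻¹ := by group
        _ = k * (g * (k⁻¹ * x * k)) * k⁻¹ := by rw [e]
        _ = k * g * k⁻¹ * x := by group
  rw [idx, h, Subgroup.index_map, MonoidHom.range_eq_top.2 (MulAut.conj k).surjective,
    (MonoidHom.ker_eq_bot_iff _).2 (MulAut.conj k).injective, sup_bot_eq, Subgroup.index_top, mul_one,
    idx]

/-- `T` is a class size comparable to no other one. -/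
def IsIsolated (G : Type u) [Group G] (T : ℕ) : Prop :=
  T ≠ 1 ∧ ∀ y : G, y ∉ Subgroup.center G → (idx y ∣ T ∨ T ∣ idx y) → idx y = T

theorem IsIsolated.notMem {T : ℕ} (hT : IsIsolated G T) {g : G} (hg : idx g = T) :
    g ∉ Subgroup.center G := fun h => hT.1 (hg.symm.trans ((idx_eq_one_iff g).2 h))

theorem IsIsolated.centralizer_eq {T : ℕ} (hT : IsIsolated G T) {g y : G} (hg : idx g = T)
    (hy : y ∉ Subgroup.center G)
    (h : Subgroup.centralizer ({g} : Set G) ≤ Subgroup.centralizer ({y} : Set G) ∨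
      Subgroup.centralizer ({y} : Set G) ≤ Subgroup.centralizer ({g} : Set G)) :
    Subgroup.centralizer ({y} : Set G) = Subgroup.centralizer ({g} : Set G) := by
  have he : idx y = idx g := by
    rw [hg]
    refine hT.2 y hy ?_
    rcases h with h | h
    · exact Or.inl (hg ▸ Subgroup.index_dvd_of_le h)
    · exact Or.inr (hg ▸ Subgroup.index_dvd_of_le h)
  have hcard : Nat.card (Subgroup.centralizer ({y} : Set G)) =
      Nat.card (Subgroup.centralizer ({g} : Set G)) := by
    have h1 := Subgroup.card_mul_index (Subgroup.centralizer ({y} : Set G))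
    have h2 := Subgroup.card_mul_index (Subgroup.centralizer ({g} : Set G))
    rw [show (Subgroup.centralizer ({y} : Set G)).index = (Subgroup.centralizer ({g} : Set G)).index from he] at h1
    exact Nat.eq_of_mul_eq_mul_right (Nat.pos_of_ne_zero Subgroup.index_ne_zero_of_finite) (h1.trans h2.symm)
  rcases h with h | h
  · exact (Subgroup.eq_of_le_of_card_ge h hcard.le).symm
  · exact Subgroup.eq_of_le_of_card_ge h hcard.ge

/-- An isolated centraliser with two primes is abelian. -/
theorem IsIsolated.comm {T : ℕ} (hT : IsIsolated G T) {g : G} (hg : idx g = T) {a b : ℕ}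
    (ha : a.Prime) (hb : b.Prime) (hab : a ≠ b) (haT : a ∣ Nat.card (img g)) (hbT : b ∣ Nat.card (img g))
    {x y : G} (hx : x * g = g * x) (hy : y * g = g * y) : x * y = y * x := by
  -- the elements of order prime to the prime of a non-central generator are central
  have key : ∀ (l : ℕ), l.Prime → ∀ w : G, w ∉ Subgroup.center G → (∃ i, w ^ l ^ i = 1) →
      Subgroup.centralizer ({w} : Set G) = Subgroup.centralizer ({g} : Set G) →
      ∀ v : G, v * g = g * v → Nat.Coprime (orderOf v) l →
        Subgroup.centralizer ({g} : Set G) ≤ Subgroup.centralizer ({v} : Set G) := by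
    intro l hl w hw ⟨i, hi⟩ hwg v hv hvl
    have hc : Commute w v := by
      have : v ∈ Subgroup.centralizer ({w} : Set G) := hwg ▸ Subgroup.mem_centralizer_singleton_iff.2 hv
      exact (Subgroup.mem_centralizer_singleton_iff.1 this).symm
    have hco : Nat.Coprime (orderOf w) (orderOf v) :=
      ((hvl.symm.pow_left i).coprime_dvd_left (orderOf_dvd_of_pow_eq_one hi))
    have hw' := mem_zpowers_mul hc hco
    have hv' : v ∈ Subgroup.zpowers (w * v) := hc.eq ▸ mem_zpowers_mul hc.symm hco.symm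
    have hwv : w * v ∉ Subgroup.center G := fun h =>
      hw ((Subgroup.zpowers_le.2 h) hw')
    rw [← hT.centralizer_eq hg hwv (Or.inr ((centralizer_le_of_mem_zpowers hw').trans hwg.le))]
    exact centralizer_le_of_mem_zpowers hv'
  -- `g` has the centraliser of an element of prime power order
  obtain ⟨l, hl, hlg⟩ := Nat.exists_prime_and_dvd
    (show orderOf (g : G ⧸ Subgroup.center G) ≠ 1 from fun e =>
      hT.notMem hg ((QuotientGroup.eq_one_iff g).1 (orderOf_eq_one_iff.1 e)))
  obtain ⟨u, v, hguv, -, -, hv, ⟨i, hi⟩, hco⟩ := CharTheory.QuasiElementary.exists_pPart_decomp g hl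
  have hvc : v ∉ Subgroup.center G := fun h => by
    have e : (g : G ⧸ Subgroup.center G) = (u : G ⧸ Subgroup.center G) := by
      rw [hguv, QuotientGroup.mk_mul, (QuotientGroup.eq_one_iff v).2 h, mul_one]
    rw [e] at hlg
    exact hl.not_dvd_one (hco.gcd_eq_one ▸ Nat.dvd_gcd
      (hlg.trans (orderOf_map_dvd (QuotientGroup.mk' _) u)) dvd_rfl)
  have hvg := hT.centralizer_eq hg hvc (Or.inl (centralizer_le_of_mem_zpowers hv))
  have key1 := key l hl v hvc ⟨i, by rw [← hi, pow_orderOf_eq_one]⟩ hvg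
  -- a second prime
  obtain ⟨r, hr, hrl, hrT⟩ : ∃ r, r.Prime ∧ r ≠ l ∧ r ∣ Nat.card (img g) := by
    by_cases h : a = l
    · exact ⟨b, hb, fun e => hab (h.trans e.symm), hbT⟩
    · exact ⟨a, ha, h, haT⟩
  haveI := Fact.mk hr
  obtain ⟨⟨w', hw'⟩, hwo⟩ := exists_prime_orderOf_dvd_card' (G := img g) r hrT
  rw [Subgroup.orderOf_mk] at hwo
  obtain ⟨w, rfl, j, hj⟩ := exists_lift hr w' ⟨1, by rw [pow_one, ← hwo, pow_orderOf_eq_one]⟩
  have hwc : w ∉ Subgroup.center G := fun h => by
    rw [(QuotientGroup.eq_one_iff w).2 h, orderOf_one] at hwo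
    exact hr.one_lt.ne hwo
  have hwl : Nat.Coprime (orderOf w) l :=
    (((Nat.coprime_primes hr hl).2 hrl).pow_left j).coprime_dvd_left (orderOf_dvd_of_pow_eq_one hj)
  have hwg := hT.centralizer_eq hg hwc (Or.inl (key1 w (mk_mem_img.1 hw') hwl))
  have key2 := key r hr w hwc ⟨j, hj⟩ hwg
  obtain ⟨s, t, rfl, -, hs, ht, ⟨k, hk⟩, hsl⟩ := CharTheory.QuasiElementary.exists_pPart_decomp x hl
  have hin : ∀ z ∈ Subgroup.zpowers (s * t), z * g = g * z := fun z hz => by
    obtain ⟨n, rfl⟩ := hz
    exact Commute.zpow_left hx n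
  have hys := Subgroup.mem_centralizer_singleton_iff.1
    (key1 s (hin s hs) hsl (Subgroup.mem_centralizer_singleton_iff.2 hy))
  have hyt := Subgroup.mem_centralizer_singleton_iff.1
    (key2 t (hin t ht) (by rw [hk]; exact ((Nat.coprime_primes hl hr).2 (Ne.symm hrl)).pow_left k)
      (Subgroup.mem_centralizer_singleton_iff.2 hy))
  rw [mul_assoc, ← hyt, ← mul_assoc, ← hys, mul_assoc]

/-- The central quotient is no larger than the class sizes show. -/
theorem false_of_extra {l : ℕ} (hl : l.Prime) {T₁ T₂ : ℕ} (hne : T₁ ≠ T₂) (hlT : ¬ l ∣ T₁)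
    (h1 : ∃ g : G, idx g = T₁) (hg1 : T₁ ≠ 1) {h : G} (hh : idx h = T₂) (hiso : IsIsolated G T₂)
    (hlh : l ∣ Nat.card (img h)) {r : ℕ} (hr : r.Prime) (hrl : r ≠ l)
    (hrh : r ∣ Nat.card (img h)) : False := by
  haveI := Fact.mk hl
  obtain ⟨g, hg⟩ := h1
  obtain ⟨⟨y', hy'⟩, hyo⟩ := exists_prime_orderOf_dvd_card' (G := img h) l hlh
  rw [Subgroup.orderOf_mk] at hyo
  obtain ⟨y, rfl, i, hi⟩ := exists_lift hl y' ⟨1, by rw [pow_one, ← hyo, pow_orderOf_eq_one]⟩
  have hyc : y ∉ Subgroup.center G := fun h => by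
    rw [(QuotientGroup.eq_one_iff y).2 h, orderOf_one] at hyo
    exact hl.one_lt.ne hyo
  have hyh := mk_mem_img.1 hy'
  have habel : ∀ a, a * h = h * a → ∀ b, b * h = h * b → a * b = b * a :=
    fun a ha b hb => hiso.comm hh hl hr (Ne.symm hrl) hlh hrh ha hb
  have hCy := hiso.centralizer_eq hh hyc (Or.inl fun a ha => Subgroup.mem_centralizer_singleton_iff.2
    (habel a (Subgroup.mem_centralizer_singleton_iff.1 ha) y hyh))
  -- a conjugate of `g` centralises `y`
  set C := Subgroup.centralizer ({g} : Set G) with hC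
  obtain ⟨S⟩ : Nonempty (Sylow l C) := inferInstance
  have hScard : Nat.card ((S : Subgroup C).map C.subtype) = l ^ (Nat.card G).factorization l := by
    rw [Subgroup.card_map_of_injective C.subtype_injective, S.card_eq_multiplicity,
      ← Subgroup.card_mul_index C, Nat.factorization_mul Nat.card_pos.ne' Subgroup.index_ne_zero_of_finite,
      Finsupp.add_apply, Nat.factorization_eq_zero_of_not_dvd (show ¬ l ∣ C.index by rw [← hg] at hlT; exact hlT),
      add_zero]
  set P' : Sylow l G := Sylow.ofCard _ hScard with hP'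
  obtain ⟨P, hP⟩ := (show IsPGroup l (Subgroup.zpowers y) from by
    obtain ⟨j, -, hj⟩ := (Nat.dvd_prime_pow hl).1 (orderOf_dvd_of_pow_eq_one hi)
    exact IsPGroup.of_card (n := j) (by rw [Nat.card_zpowers, hj])).exists_le_sylow
  obtain ⟨k, hk⟩ := MulAction.exists_smul_eq G P' P
  have hyP : y ∈ ((k • P' : Sylow l G) : Subgroup G) := hk ▸ hP (Subgroup.mem_zpowers y)
  rw [Sylow.coe_subgroup_smul, Subgroup.mem_pointwise_smul_iff_inv_smul_mem] at hyP
  have hyC : k⁻¹ * y * k ∈ C := by
    simpa only [← map_inv, MulAut.smul_def, MulAut.conj_apply, inv_inv] using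
      (Subgroup.map_subtype_le _ hyP)
  have hgy : k * g * k⁻¹ * y = y * (k * g * k⁻¹) := by
    have e := Subgroup.mem_centralizer_singleton_iff.1 hyC
    calc k * g * k⁻¹ * y = k * (g * (k⁻¹ * y * k)) * k⁻¹ := by group
      _ = k * (k⁻¹ * y * k * g) * k⁻¹ := by rw [e]
      _ = y * (k * g * k⁻¹) := by group
  have hgh : (k * g * k⁻¹) * h = h * (k * g * k⁻¹) :=
    Subgroup.mem_centralizer_singleton_iff.1 (hCy ▸ Subgroup.mem_centralizer_singleton_iff.2 hgy)
  have hgc : k * g * k⁻¹ ∉ Subgroup.center G := fun hc => hg1 (by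
    rw [← hg, ← idx_conj k g, (idx_eq_one_iff _).2 hc])
  have heq := hiso.centralizer_eq hh hgc (Or.inl fun a ha => Subgroup.mem_centralizer_singleton_iff.2
    (habel a (Subgroup.mem_centralizer_singleton_iff.1 ha) _ hgh))
  refine hne ?_
  rw [← hg, ← hh, ← idx_conj k g, idx, idx, heq]

end Cfsg.Agent.ClassSizePSL
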