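import Mathlib
import Cfsg.Agent.Lib.ClassSizePSL.Basic
import Cfsg.Agent.Lib.ClassSizePSL.Tools

/-!
# The central quotient of a group with the class sizes of `PSL₂(q)`
-/

set_option autoImplicit false
set_option linter.unusedSectionVars false
set_option linter.unusedVariables false
set_option linter.style.haveILetI false

namespace Cfsg.Agent.ClassSizePSL

universe u

variable {G : Type u} [Group G] [Finite G]

local notation "G⁄Z" => G ⧸ Subgroup.center G

theorem card_img {g : G} {L T c : ℕ} (hcard : Nat.card G⁄Z = L) (hg : idx g = T) (hT : T * c = L) :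
    Nat.card (img g) = c := by
  have h := idx_mul g
  rw [hg, hcard, ← hT] at h
  refine Nat.eq_of_mul_eq_mul_left (Nat.pos_of_ne_zero fun e => ?_) h
  exact Subgroup.index_ne_zero_of_finite (hg.trans e)

theorem card_img_pElem {p q L A : ℕ} (hp : p.Prime) (hcard : Nat.card G⁄Z = L) (hAL : A * q = L)
    (hval : ∀ g : G, g ∉ Subgroup.center G → p ∣ Nat.card (img g) → idx g = A)
    {y : G} (hyc : y ∉ Subgroup.center G) (hy : ∃ i, y ^ p ^ i = 1) : Nat.card (img y) = q := by
  obtain ⟨i, hi⟩ := hy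
  refine card_img hcard (hval y hyc ?_) hAL
  obtain ⟨j, -, hj⟩ := (Nat.dvd_prime_pow hp).1
    (orderOf_dvd_of_pow_eq_one (show (y : G⁄Z) ^ p ^ i = 1 by
      rw [← QuotientGroup.mk_pow, hi, QuotientGroup.mk_one]))
  rcases j with _ | j
  · exact absurd ((QuotientGroup.eq_one_iff y).1 (orderOf_eq_one_iff.1 (by simpa using hj))) hyc
  · exact ((dvd_pow_self p (Nat.succ_ne_zero j)).trans hj.symm.dvd).trans
      (Subgroup.orderOf_dvd_natCard _ (mk_mem_img.2 rfl))

/-- The centralisers of the `p`-elements of the central quotient. -/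
theorem card_centralizer {p f q L A : ℕ} (hp : p.Prime) (hqf : q = p ^ f)
    (hcard : Nat.card G⁄Z = L) (hAL : A * q = L) (hpA : ¬ p ∣ A)
    (hval : ∀ g : G, g ∉ Subgroup.center G → p ∣ Nat.card (img g) → idx g = A)
    (x : G⁄Z) (hx1 : x ≠ 1) (hx : ∃ i, x ^ p ^ i = 1) :
    Nat.card (Subgroup.centralizer ({x} : Set G⁄Z)) = q := by
  obtain ⟨y, rfl, i, hi⟩ := exists_lift hp x hx
  have hyc : y ∉ Subgroup.center G := fun h => hx1 ((QuotientGroup.eq_one_iff y).2 h)
  have hq := card_img_pElem hp hcard hAL hval hyc ⟨i, hi⟩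
  set C := Subgroup.centralizer ({(y : G⁄Z)} : Set G⁄Z) with hC
  have h1 : q ∣ Nat.card C := hq ▸ Subgroup.card_dvd_of_le (img_le_centralizer y)
  -- the centraliser is a `p`-group
  have hpr : ∀ l : ℕ, l.Prime → l ∣ Nat.card C → l = p := by
    intro l hl hlC
    by_contra hlp
    haveI := Fact.mk hl
    obtain ⟨⟨u', hu'⟩, huo⟩ := exists_prime_orderOf_dvd_card' (G := C) l hlC
    rw [Subgroup.orderOf_mk] at huo
    obtain ⟨u, rfl, j, hj⟩ := exists_lift hl u' ⟨1, by rw [pow_one, ← huo, pow_orderOf_eq_one]⟩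
    have hc := commute_of_coprime (coprime_of_pow ((Nat.coprime_primes hl hp).2 hlp) hj hi)
      (Subgroup.mem_centralizer_singleton_iff.1 hu')
    have h2 := Subgroup.orderOf_dvd_natCard (img y) (mk_mem_img.2 hc)
    rw [huo, hq, hqf] at h2
    exact hlp ((Nat.prime_dvd_prime_iff_eq hl hp).1 (hl.dvd_of_dvd_pow h2))
  have hCp := Nat.eq_prime_pow_of_unique_prime_dvd (p := p) (n := Nat.card C) Nat.card_pos.ne'
    fun {l} hl h => hpr l hl h
  refine Nat.dvd_antisymm ?_ h1
  have h3 : Nat.card C ∣ A * q := hAL ▸ hcard ▸ Subgroup.card_subgroup_dvd_card C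
  exact (Nat.Coprime.dvd_of_dvd_mul_left (hCp ▸ ((hp.coprime_iff_not_dvd.2 hpA).pow_left _)) h3)

/-- Even `q`. -/
theorem centSylow_even {f q a b : ℕ} (hqf : q = 2 ^ f) (h4 : 4 ≤ q) (ha : a + 1 = q) (hb : b = q + 1)
    (hV : Set.range (idx (G := G)) = {1, q * a, a * b, q * b}) :
    CentSylow G⁄Z 2 q 1 ∧ Nat.card G⁄Z = q * (a * b) ∧
      ∀ y : G, y ∉ Subgroup.center G → (∃ i, y ^ 2 ^ i = 1) → Nat.card (img y) = q := by
  have h2q : 2 ∣ q := by
    rcases f with _ | f
    · rw [hqf, pow_zero] at h4; omega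
    · rw [hqf]; exact dvd_pow_self 2 (Nat.succ_ne_zero f)
  have cqa : Nat.Coprime q a := by rw [← ha]; simp
  have cqb : Nat.Coprime q b := by rw [hb]; simp
  have cab : Nat.Coprime a b := by
    refine Nat.coprime_of_dvd' fun l hl hla hlb => ?_
    have h := Nat.dvd_sub hlb hla
    rw [show b - a = 2 by omega] at h
    have := (Nat.prime_dvd_prime_iff_eq hl Nat.prime_two).1 h
    subst this
    omega
  have hval : ∀ g : G, g ∉ Subgroup.center G → idx g = q * a ∨ idx g = a * b ∨ idx g = q * b := by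
    intro g hg
    have h : idx g ∈ ({1, q * a, a * b, q * b} : Set ℕ) := hV ▸ Set.mem_range_self g
    simp only [Set.mem_insert_iff, Set.mem_singleton_iff] at h
    exact h.resolve_left fun e => hg ((idx_eq_one_iff g).1 e)
  have hex : ∀ T ∈ ({1, q * a, a * b, q * b} : Set ℕ), ∃ g : G, idx g = T := fun T hT => by
    rw [← hV] at hT; exact hT
  obtain ⟨gB, hgB⟩ := hex (q * a) (by simp)
  obtain ⟨gA, hgA⟩ := hex (a * b) (by simp)
  obtain ⟨gC, hgC⟩ := hex (q * b) (by simp)
  have eq_a : ∀ {n : ℕ}, n ∣ a → n ∣ b → n = 1 := fun h1 h2 => Nat.dvd_one.1 (cab.gcd_eq_one ▸ Nat.dvd_gcd h1 h2)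
  have eq_q : ∀ {n : ℕ}, n ∣ q → n ∣ a * b → n = 1 := fun h1 h2 =>
    Nat.dvd_one.1 ((cqa.mul_right cqb).gcd_eq_one ▸ Nat.dvd_gcd h1 h2)
  -- `a * b` and `q * a` are isolated
  have isoA : IsIsolated G (a * b) := by
    refine ⟨fun e => by have := Nat.eq_one_of_mul_eq_one_left e; omega, fun y hy h => ?_⟩
    rcases hval y hy with e | e | e
    · rw [e] at h
      rcases h with h | h
      · have := eq_q dvd_rfl ((Dvd.intro a rfl).trans h); omega
      · have := eq_a (cqb.symm.dvd_of_dvd_mul_left ((Dvd.intro_left a rfl : b ∣ a * b).trans h)) dvd_rfl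
        omega
    · exact e
    · rw [e] at h
      rcases h with h | h
      · have := eq_q dvd_rfl ((Dvd.intro b rfl).trans h); omega
      · have := eq_a dvd_rfl (cqa.symm.dvd_of_dvd_mul_left ((Dvd.intro b rfl).trans h)); omega
  have isoB : IsIsolated G (q * a) := by
    refine ⟨fun e => by have := Nat.eq_one_of_mul_eq_one_right e; omega, fun y hy h => ?_⟩
    rcases hval y hy with e | e | e
    · exact e
    · rw [e] at h
      rcases h with h | h
      · have := eq_a (cqb.symm.dvd_of_dvd_mul_left ((Dvd.intro_left a rfl).trans h)) dvd_rfl; omega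
      · have := eq_q dvd_rfl ((Dvd.intro a rfl).trans h); omega
    · rw [e] at h
      rcases h with h | h
      · have := eq_a (Nat.dvd_of_mul_dvd_mul_left (by omega) h) dvd_rfl; omega
      · have := eq_a dvd_rfl (Nat.dvd_of_mul_dvd_mul_left (by omega) h); omega
  -- the order of the quotient
  obtain ⟨s, hs⟩ : q * (a * b) ∣ Nat.card G⁄Z := by
    refine (cqa.mul_right cqb).mul_dvd_of_dvd_of_dvd ?_ ?_
    · exact (Dvd.intro a rfl).trans (hgB ▸ Dvd.intro _ (idx_mul gB))
    · exact hgA ▸ Dvd.intro _ (idx_mul gA)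
  have hA : Nat.card (img gA) = q * s :=
    card_img hs hgA (by ring)
  have hB : Nat.card (img gB) = b * s :=
    card_img hs hgB (by ring)
  have hs1 : s = 1 := by
    by_contra hne
    obtain ⟨l, hl, hls⟩ := Nat.exists_prime_and_dvd hne
    by_cases hlq : l ∣ q
    · obtain ⟨r, hr, hrb⟩ := Nat.exists_prime_and_dvd (show b ≠ 1 by omega)
      refine false_of_extra hl (T₁ := a * b) (T₂ := q * a) (fun e => ?_) (fun h => ?_) ⟨gA, hgA⟩
        isoA.1 hgB isoB (hB ▸ hls.mul_left b) hr (fun e => ?_) (hB ▸ hrb.mul_right s)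
      · have := eq_q dvd_rfl (e ▸ Dvd.intro a rfl); omega
      · exact hl.ne_one (eq_q hlq h)
      · exact hl.ne_one (Nat.dvd_one.1 (cqb.gcd_eq_one ▸ Nat.dvd_gcd hlq (e ▸ hrb)))
    · have hT : ∃ T, T ∈ ({1, q * a, a * b, q * b} : Set ℕ) ∧ T ≠ 1 ∧ ¬ l ∣ T ∧ q ∣ T := by
        by_cases hla : l ∣ a
        · refine ⟨q * b, by simp, fun e => ?_, fun h => ?_, Dvd.intro b rfl⟩
          · have := Nat.eq_one_of_mul_eq_one_right e; omega
          · rcases hl.dvd_mul.1 h with h | h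
            · exact hlq h
            · exact hl.ne_one (eq_a hla h)
        · refine ⟨q * a, by simp, isoB.1, fun h => ?_, Dvd.intro a rfl⟩
          rcases hl.dvd_mul.1 h with h | h
          · exact hlq h
          · exact hla h
      obtain ⟨T, hTm, hT1, hlT, hqT⟩ := hT
      refine false_of_extra hl (T₂ := a * b) (fun e => ?_) hlT (hex T hTm) hT1 hgA isoA
        (hA ▸ hls.mul_left q) Nat.prime_two (fun e => hlq (e ▸ h2q)) (hA ▸ h2q.mul_right s)
      have := eq_q dvd_rfl (e ▸ hqT); omega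
  rw [hs1, mul_one] at hs
  have h2A : ¬ 2 ∣ a * b := fun h => Nat.prime_two.ne_one (eq_q h2q h)
  have hvalA : ∀ g : G, g ∉ Subgroup.center G → 2 ∣ Nat.card (img g) → idx g = a * b := by
    intro g hg hd
    rcases hval g hg with e | e | e
    · exact absurd (show 2 ∣ b from card_img (c := b) hs e (by ring) ▸ hd)
        (fun h => Nat.prime_two.ne_one (Nat.dvd_one.1 (cqb.gcd_eq_one ▸ Nat.dvd_gcd h2q h)))
    · exact e
    · exact absurd (show 2 ∣ a from card_img (c := a) hs e (by ring) ▸ hd)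
        (fun h => Nat.prime_two.ne_one (Nat.dvd_one.1 (cqa.gcd_eq_one ▸ Nat.dvd_gcd h2q h)))
  refine ⟨⟨Nat.prime_two, ⟨f, hqf⟩, h4, Or.inl ⟨rfl, rfl⟩, ?_, ?_⟩, hs, fun y =>
    card_img_pElem Nat.prime_two hs (A := a * b) (by ring) hvalA⟩
  · rw [hs, mul_one, hb, show q - 1 = a by omega]
  · exact card_centralizer Nat.prime_two hqf hs (A := a * b) (by ring) h2A hvalA

/-- Odd `q`; here `4 m` and `2 k` are `q ± 1`. -/
theorem centSylow_odd {p f q m k : ℕ} (hp : p.Prime) (hp2 : p ≠ 2) (hqf : q = p ^ f) (h7 : 7 ≤ q)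
    (hrel : (4 * m + 1 = q ∧ 2 * k = q + 1) ∨ (4 * m = q + 1 ∧ 2 * k + 1 = q))
    (hV : Set.range (idx (G := G)) = {1, 4 * m * k, k * q, 4 * m * q, 2 * k * q}) :
    CentSylow G⁄Z p q 2 ∧ Nat.card G⁄Z = 4 * m * k * q ∧
      (∀ y : G, y ∉ Subgroup.center G → (∃ i, y ^ p ^ i = 1) → Nat.card (img y) = q) ∧
      ∀ u r : G⁄Z, ∀ l j : ℕ, l.Prime → l ≠ 2 → l ∣ q - 1 → q + 1 = 2 ^ j → orderOf u = l →
        orderOf r = 2 → u * r = r * u → False := by
  have hpq : p ∣ q := by
    rcases f with _ | f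
    · rw [hqf, pow_zero] at h7; omega
    · rw [hqf]; exact dvd_pow_self p (Nat.succ_ne_zero f)
  have hqodd : ¬ 2 ∣ q := fun h => hp2
    ((Nat.prime_dvd_prime_iff_eq Nat.prime_two hp).1 (Nat.prime_two.dvd_of_dvd_pow (hqf ▸ h))).symm
  have hk3 : 3 ≤ k := by omega
  have hm0 : 1 ≤ m := by omega
  have hkodd : ¬ 2 ∣ k := by omega
  have hqk : ∀ {n : ℕ}, n ∣ q → n ∣ k → n = 1 := by
    intro n h1 h2
    rcases hrel with ⟨-, e⟩ | ⟨-, e⟩
    · exact Nat.dvd_one.1 ((Nat.dvd_add_right h1).1 (e ▸ h2.mul_left 2))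
    · exact Nat.dvd_one.1 ((Nat.dvd_add_right (h2.mul_left 2)).1 (e.symm ▸ h1))
  have hqm : ∀ {n : ℕ}, n ∣ q → n ∣ 4 * m → n = 1 := by
    intro n h1 h2
    rcases hrel with ⟨e, -⟩ | ⟨e, -⟩
    · exact Nat.dvd_one.1 ((Nat.dvd_add_right h2).1 (e.symm ▸ h1))
    · exact Nat.dvd_one.1 ((Nat.dvd_add_right h1).1 (e ▸ h2))
  have hkm : ∀ {n : ℕ}, n ∣ k → n ∣ 4 * m → n = 1 := by
    intro n h1 h2
    have hn2 : n ∣ 2 := by
      rcases hrel with ⟨e, e'⟩ | ⟨e, e'⟩
      · have := Nat.dvd_sub (h1.mul_left 2) h2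
        rwa [show 2 * k - 4 * m = 2 by omega] at this
      · have := Nat.dvd_sub h2 (h1.mul_left 2)
        rwa [show 4 * m - 2 * k = 2 by omega] at this
    rcases (Nat.dvd_prime Nat.prime_two).1 hn2 with rfl | rfl
    · rfl
    · exact absurd h1 hkodd
  have cqk : Nat.Coprime q k := Nat.coprime_of_dvd' fun l hl a b => (hqk a b).dvd
  have cqm : Nat.Coprime q (4 * m) := Nat.coprime_of_dvd' fun l hl a b => (hqm a b).dvd
  have ckm : Nat.Coprime k (4 * m) := Nat.coprime_of_dvd' fun l hl a b => (hkm a b).dvd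
  have hval : ∀ g : G, g ∉ Subgroup.center G → idx g = 4 * m * k ∨ idx g = k * q ∨
      idx g = 4 * m * q ∨ idx g = 2 * k * q := by
    intro g hg
    have h : idx g ∈ ({1, 4 * m * k, k * q, 4 * m * q, 2 * k * q} : Set ℕ) := hV ▸ Set.mem_range_self g
    simp only [Set.mem_insert_iff, Set.mem_singleton_iff] at h
    exact h.resolve_left fun e => hg ((idx_eq_one_iff g).1 e)
  have hex : ∀ T ∈ ({1, 4 * m * k, k * q, 4 * m * q, 2 * k * q} : Set ℕ), ∃ g : G, idx g = T :=
    fun T hT => by rw [← hV] at hT; exact hT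
  obtain ⟨gA, hgA⟩ := hex (4 * m * k) (by simp)
  obtain ⟨gY, hgY⟩ := hex (4 * m * q) (by simp)
  obtain ⟨gD, hgD⟩ := hex (k * q) (by simp)
  have qA : ¬ q ∣ 4 * m * k := fun h => by
    have := hqk dvd_rfl (cqm.dvd_of_dvd_mul_left h); omega
  have mKQ : ∀ {c : ℕ}, c ∣ 2 → ¬ 4 * m ∣ c * k * q := fun {c} hc h => by
    have h4 : 4 ∣ c * k := (Dvd.intro m rfl).trans (cqm.symm.dvd_of_dvd_mul_right h)
    rcases (Nat.dvd_prime Nat.prime_two).1 hc with rfl | rfl <;> omega
  have kmq : ¬ k ∣ 4 * m * q := fun h => by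
    have := hkm dvd_rfl (cqk.symm.dvd_of_dvd_mul_right h); omega
  have isoA : IsIsolated G (4 * m * k) := by
    refine ⟨fun e => by have := Nat.eq_one_of_mul_eq_one_left e; omega, fun y hy h => ?_⟩
    rcases hval y hy with e | e | e | e
    · exact e
    · rw [e] at h
      rcases h with h | h
      · exact absurd ((Dvd.intro_left k rfl).trans h) qA
      · exact absurd (show 4 * m ∣ 1 * k * q by rw [one_mul]; exact (Dvd.intro k rfl).trans h) (mKQ (one_dvd 2))
    · rw [e] at h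
      rcases h with h | h
      · exact absurd ((Dvd.intro_left _ rfl).trans h) qA
      · exact absurd ((Dvd.intro_left _ rfl).trans h) kmq
    · rw [e] at h
      rcases h with h | h
      · exact absurd ((Dvd.intro_left _ rfl).trans h) qA
      · exact absurd ((Dvd.intro k rfl).trans h) (mKQ dvd_rfl)
  have isoY : IsIsolated G (4 * m * q) := by
    refine ⟨fun e => by have := Nat.eq_one_of_mul_eq_one_left e; omega, fun y hy h => ?_⟩
    rcases hval y hy with e | e | e | e
    · rw [e] at h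
      rcases h with h | h
      · exact absurd ((Dvd.intro_left _ rfl).trans h) kmq
      · exact absurd ((Dvd.intro_left _ rfl).trans h) qA
    · rw [e] at h
      rcases h with h | h
      · exact absurd ((Dvd.intro q rfl).trans h) kmq
      · exact absurd (show 4 * m ∣ 1 * k * q by rw [one_mul]; exact (Dvd.intro q rfl).trans h) (mKQ (one_dvd 2))
    · exact e
    · rw [e] at h
      rcases h with h | h
      · exact absurd ((Dvd.intro (2 * q) (by ring : k * (2 * q) = 2 * k * q)).trans h) kmq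
      · exact absurd ((Dvd.intro q rfl).trans h) (mKQ dvd_rfl)
  obtain ⟨s, hs⟩ : 4 * m * k * q ∣ Nat.card G⁄Z := by
    refine (Nat.Coprime.mul_left cqm.symm cqk.symm).mul_dvd_of_dvd_of_dvd ?_ ?_
    · exact hgA ▸ Dvd.intro _ (idx_mul gA)
    · exact (Dvd.intro_left k rfl).trans (hgD ▸ Dvd.intro _ (idx_mul gD))
  have hA : Nat.card (img gA) = q * s :=
    card_img hs hgA (by ring)
  have hY : Nat.card (img gY) = k * s :=
    card_img hs hgY (by ring)
  have hs1 : s = 1 := by
    by_contra hne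
    obtain ⟨l, hl, hls⟩ := Nat.exists_prime_and_dvd hne
    by_cases hlk : l ∣ k
    · refine false_of_extra hl (T₁ := 4 * m * q) (T₂ := 4 * m * k) (fun e => ?_) (fun h => ?_) ⟨gY, hgY⟩
        isoY.1 hgA isoA (hA ▸ hls.mul_left q) hp (fun e => ?_) (hA ▸ hpq.mul_right s)
      · exact qA (e ▸ Dvd.intro_left _ rfl)
      · rcases hl.dvd_mul.1 h with h | h
        · exact hl.ne_one (hkm hlk h)
        · exact hl.ne_one (hqk h hlk)
      · exact hp.ne_one (hqk hpq (e ▸ hlk))
    obtain ⟨r, hr, hrk⟩ := Nat.exists_prime_and_dvd (show k ≠ 1 by omega)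
    have hrl : r ≠ l := fun e => hlk (e ▸ hrk)
    by_cases hlq : l ∣ q
    · refine false_of_extra hl (T₁ := 4 * m * k) (T₂ := 4 * m * q) (fun e => ?_) (fun h => ?_) ⟨gA, hgA⟩
        isoA.1 hgY isoY (hY ▸ hls.mul_left k) hr hrl (hY ▸ hrk.mul_right s)
      · exact qA (e.symm ▸ Dvd.intro_left _ rfl)
      · rcases hl.dvd_mul.1 h with h | h
        · exact hl.ne_one (hqm hlq h)
        · exact hlk h
    · refine false_of_extra hl (T₁ := k * q) (T₂ := 4 * m * q) (fun e => ?_) (fun h => ?_) ⟨gD, hgD⟩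
        (fun e => by have := Nat.eq_one_of_mul_eq_one_right e; omega) hgY isoY (hY ▸ hls.mul_left k) hr hrl
        (hY ▸ hrk.mul_right s)
      · exact kmq (e ▸ Dvd.intro q rfl)
      · exact (hl.dvd_mul.1 h).elim hlk hlq
  rw [hs1, mul_one] at hs
  have himg : ∀ g : G, g ∉ Subgroup.center G → idx g = 4 * m * k ∧ Nat.card (img g) = q ∨
      Nat.card (img g) = 4 * m ∨ Nat.card (img g) = k ∨ Nat.card (img g) = 2 * m := by
    intro g hg
    rcases hval g hg with e | e | e | e
    · exact Or.inl ⟨e, card_img hs e rfl⟩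
    · exact Or.inr (Or.inl (card_img hs e (by ring)))
    · exact Or.inr (Or.inr (Or.inl (card_img hs e (by ring))))
    · exact Or.inr (Or.inr (Or.inr (card_img hs e (by ring))))
  have hvalA : ∀ g : G, g ∉ Subgroup.center G → p ∣ Nat.card (img g) → idx g = 4 * m * k := by
    intro g hg hd
    rcases himg g hg with ⟨e, -⟩ | e | e | e
    · exact e
    all_goals rw [e] at hd
    · exact absurd (hqm hpq hd) hp.ne_one
    · exact absurd (hqk hpq hd) hp.ne_one
    · exact absurd (hqm hpq (hd.trans ⟨2, by ring⟩)) hp.ne_one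
  refine ⟨⟨hp, ⟨f, hqf⟩, by omega, Or.inr ⟨rfl, hp2⟩, ?_, ?_⟩, hs,
    fun y => card_img_pElem hp hs (A := 4 * m * k) rfl hvalA, ?_⟩
  · rw [hs]
    rcases hrel with ⟨e, e'⟩ | ⟨e, e'⟩
    · rw [show q - 1 = 4 * m by omega, ← e']; ring
    · rw [show q - 1 = 2 * k by omega, ← e]; ring
  · refine card_centralizer hp hqf hs (A := 4 * m * k) rfl (fun h => ?_) hvalA
    rcases hp.dvd_mul.1 h with h | h
    · exact hp.ne_one (hqm hpq h)
    · exact hp.ne_one (hqk hpq h)
  · intro u' r' l j hl hl2 hlq hj huo hro hcomm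
    obtain ⟨u, rfl, i, hi⟩ := exists_lift hl u' ⟨1, by rw [pow_one, ← huo, pow_orderOf_eq_one]⟩
    obtain ⟨r, rfl, i', hi'⟩ := exists_lift Nat.prime_two r' ⟨1, by rw [pow_one, ← hro, pow_orderOf_eq_one]⟩
    have huc : u ∉ Subgroup.center G := fun h => by
      rw [(QuotientGroup.eq_one_iff u).2 h, orderOf_one] at huo
      exact hl.one_lt.ne huo
    have hc := commute_of_coprime (coprime_of_pow ((Nat.coprime_primes hl Nat.prime_two).2 hl2) hi hi')
      hcomm
    have h2 := Subgroup.orderOf_dvd_natCard (img u) (mk_mem_img.2 hc.symm)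
    have hlu := Subgroup.orderOf_dvd_natCard (img u) (mk_mem_img (g := u) (x := u).2 rfl)
    rw [hro] at h2
    rw [huo] at hlu
    obtain ⟨j, rfl⟩ : ∃ i, j = i + 3 := ⟨j - 3, by
      by_contra hne
      have : j ≤ 2 := by omega
      interval_cases j <;> omega⟩
    have hm : 4 * m = q + 1 := by
      rcases hrel with ⟨e, -⟩ | ⟨e, -⟩
      · exfalso
        rw [← e, pow_add] at hj
        omega
      · exact e
    have hlm : ∀ c, c ∣ 4 * m → ¬ l ∣ c := fun c hc h => hl2
      ((Nat.prime_dvd_prime_iff_eq hl Nat.prime_two).1 (hl.dvd_of_dvd_pow (hj ▸ hm ▸ h.trans hc)))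
    rcases himg u huc with ⟨-, e⟩ | e | e | e <;> rw [e] at h2 hlu
    · exact hqodd h2
    · exact hlm _ dvd_rfl hlu
    · exact hkodd h2
    · exact hlm _ ⟨2, by ring⟩ hlu

end Cfsg.Agent.ClassSizePSL
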