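import Mathlib
import Cfsg.Prelude.Def_LieExceptional
import Cfsg.Agent.Lib.ClassSizePSL.Abelian
import Cfsg.Agent.Lib.Perm.Zassenhaus.Main
import Cfsg.Agent.S1230

/-!
# The action on the Sylow subgroups identifies the group
-/

set_option autoImplicit false
set_option linter.unusedSectionVars false
set_option linter.style.haveILetI false
set_option linter.unusedVariables false

namespace Cfsg.Agent.ClassSizePSL

open MulAction
open scoped Pointwise

universe u

variable {Q : Type u} [Group Q] [Finite Q] {p q d : ℕ} (S : CentSylow Q p q d)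
include S

theorem CentSylow.kern_eq (P : Sylow p Q) : kern P = (P : Subgroup Q) :=
  le_antisymm inf_le_left fun x hx =>
    ⟨hx, Subgroup.mem_centralizer_iff.2 fun y hy => S.sylow_comm P hy hx⟩

theorem CentSylow.cent {P : Sylow p Q} {x : Q} (hx : x ∈ (P : Subgroup Q)) (hx1 : x ≠ 1) :
    Subgroup.centralizer ({x} : Set Q) = (P : Subgroup Q) :=
  S.centralizer_eq (by rw [S.kern_eq P]; exact hx) hx1

theorem CentSylow.normalizer_card (P : Sylow p Q) :
    ∃ m, Nat.card (Subgroup.normalizer ((P : Subgroup Q) : Set Q)) = q * m ∧ d * m = q - 1 ∧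
      Nat.card (Sylow p Q) = q + 1 := by
  obtain ⟨m, hm, hdm, hn, -⟩ := S.numerology P
  rw [S.kern_eq P, S.card_sylow P] at hdm
  refine ⟨m, hm, hdm, ?_⟩
  rw [hdm, mul_comm (q - 1)] at hn
  have := S.h4
  exact Nat.eq_of_mul_eq_mul_right (by omega) hn

theorem CentSylow.card_sylows : Nat.card (Sylow p Q) = q + 1 := by
  haveI := Fact.mk S.hp
  obtain ⟨P⟩ : Nonempty (Sylow p Q) := inferInstance
  obtain ⟨-, -, -, h⟩ := S.normalizer_card P
  exact h

theorem CentSylow.eq_one_of_fix {u : Q} {P : Sylow p Q} (hu : u ∈ (P : Subgroup Q)) {R : Sylow p Q}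
    (hR : u • R = R) (hne : R ≠ P) : u = 1 := by
  haveI := Fact.mk S.hp
  by_contra hu1
  have hn : u ∈ Subgroup.normalizer ((R : Subgroup Q) : Set Q) := Sylow.smul_eq_iff_mem_normalizer.1 hR
  have hpu : IsPGroup p (Subgroup.zpowers u) := (P.isPGroup').to_le ((Subgroup.zpowers_le).2 hu)
  have hsup : IsPGroup p ((R : Subgroup Q) ⊔ Subgroup.zpowers u : Subgroup Q) :=
    R.isPGroup'.to_sup_of_normal_left' hpu ((Subgroup.zpowers_le).2 hn)
  have huR : u ∈ (R : Subgroup Q) :=
    R.is_maximal' hsup le_sup_left ▸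
      (le_sup_right : _ ≤ (R : Subgroup Q) ⊔ Subgroup.zpowers u) (Subgroup.mem_zpowers u)
  exact hne (Sylow.ext ((S.cent huR hu1).symm.trans (S.cent hu hu1)))

theorem CentSylow.exists_smul (P : Sylow p Q) {A B : Sylow p Q} (hA : A ≠ P) (hB : B ≠ P) :
    ∃ u ∈ (P : Subgroup Q), u • A = B := by
  classical
  haveI := Fact.mk S.hp
  haveI := Fintype.ofFinite (Sylow p Q)
  let f : ↥(P : Subgroup Q) → {R : Sylow p Q // R ≠ P} := fun u => ⟨(u : Q) • A, fun e => hA (by
    have hu : (u : Q) • P = P := Sylow.smul_eq_iff_mem_normalizer.2 (Subgroup.le_normalizer u.2)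
    exact MulAction.injective (u : Q) (e.trans hu.symm))⟩
  have hinj : Function.Injective f := fun u v e => by
    have e' : (u : Q) • A = (v : Q) • A := congrArg Subtype.val e
    have h1 : ((v⁻¹ * u : (P : Subgroup Q)) : Q) = 1 :=
      S.eq_one_of_fix (v⁻¹ * u : (P : Subgroup Q)).2 (by
        rw [Subgroup.coe_mul, Subgroup.coe_inv, mul_smul, e', inv_smul_smul]) hA
    rw [Subgroup.coe_mul, Subgroup.coe_inv, inv_mul_eq_one] at h1
    exact Subtype.ext h1.symm
  have hcard : Nat.card (P : Subgroup Q) = Nat.card {R : Sylow p Q // R ≠ P} := by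
    rw [S.card_sylow, Nat.card_eq_fintype_card, Fintype.card_subtype_compl,
      Fintype.card_subtype_eq, ← Nat.card_eq_fintype_card, S.card_sylows]
    omega
  obtain ⟨u, hu⟩ := ((Nat.bijective_iff_injective_and_card f).2 ⟨hinj, hcard⟩).2 ⟨B, hB⟩
  exact ⟨u, u.2, congrArg Subtype.val hu⟩

theorem CentSylow.eq_one_of_fix_three {g : Q} {A B C : Sylow p Q} (hAB : A ≠ B) (hBC : B ≠ C)
    (hAC : A ≠ C) (hA : g • A = A) (hB : g • B = B) (hC : g • C = C) : g = 1 := by
  haveI := Fact.mk S.hp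
  obtain ⟨x, hx, hxB⟩ := S.exists_smul A hAB.symm hAC.symm
  have hx1 : x ≠ 1 := fun e => hBC (by rw [← hxB, e, one_smul])
  have hx' : g * x * g⁻¹ ∈ (A : Subgroup Q) :=
    (Subgroup.mem_normalizer_iff.1 (Sylow.smul_eq_iff_mem_normalizer.1 hA) x).1 hx
  have h1 : x⁻¹ * (g * x * g⁻¹) = 1 := by
    refine S.eq_one_of_fix (mul_mem (inv_mem hx) hx') (R := B) ?_ hAB.symm
    simp only [mul_smul]
    rw [show g⁻¹ • B = B from inv_smul_eq_iff.2 hB.symm, hxB, hC, ← hxB, inv_smul_smul]
  have hc : g * x = x * g := mul_inv_eq_iff_eq_mul.1 (inv_mul_eq_one.1 h1).symm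
  have hg : g ∈ (A : Subgroup Q) := by
    rw [← S.cent hx hx1, Subgroup.mem_centralizer_singleton_iff]
    exact hc
  exact S.eq_one_of_fix hg hB hAB.symm

theorem CentSylow.exists_third (A B : Sylow p Q) : ∃ C : Sylow p Q, C ≠ A ∧ C ≠ B := by
  classical
  haveI := Fintype.ofFinite (Sylow p Q)
  have hn := S.card_sylows
  rw [Nat.card_eq_fintype_card, ← Finset.card_univ] at hn
  have h2 : ({A, B} : Finset (Sylow p Q)).card ≤ 2 := Finset.card_le_two
  obtain ⟨C, -, hC⟩ := Finset.exists_mem_notMem_of_card_lt_card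
    (s := ({A, B} : Finset (Sylow p Q))) (t := Finset.univ) (by have := S.h4; omega)
  exact ⟨C, by simpa using hC⟩

theorem CentSylow.isPretransitive : MulAction.IsMultiplyPretransitive Q (Sylow p Q) 2 := by
  haveI := Fact.mk S.hp
  rw [MulAction.is_two_pretransitive_iff]
  intro a b c e hab hce
  obtain ⟨g, hg⟩ := MulAction.exists_smul_eq Q a c
  have hgb : g • b ≠ c := fun e => hab (MulAction.injective g (hg.trans e.symm))
  obtain ⟨x, hx, hxe⟩ := S.exists_smul c hgb hce.symm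
  refine ⟨x * g, ?_, by rw [mul_smul, hxe]⟩
  rw [mul_smul, hg]
  exact Sylow.smul_eq_iff_mem_normalizer.2 (Subgroup.le_normalizer hx)

theorem CentSylow.two_point_card {A B : Sylow p Q} (hne : A ≠ B) :
    d * Nat.card ↥(stabilizer Q A ⊓ stabilizer Q B) = q - 1 := by
  classical
  haveI := Fact.mk S.hp
  haveI := Fintype.ofFinite (Sylow p Q)
  obtain ⟨m, hm, hdm, -⟩ := S.normalizer_card A
  have hstab : Nat.card (stabilizer Q A) = q * m := by
    rw [Sylow.stabilizer_eq_normalizer]; exact hm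
  have horb : orbit (stabilizer Q A) B = {R | R ≠ A} := by
    ext R
    rw [mem_orbit_iff, Set.mem_setOf_eq]
    constructor
    · rintro ⟨g, rfl⟩ e
      exact hne (MulAction.injective (g : Q) ((mem_stabilizer_iff.1 g.2).trans e.symm))
    · intro hR
      obtain ⟨x, hx, hxR⟩ := S.exists_smul A hne.symm hR
      exact ⟨⟨x, mem_stabilizer_iff.2
        (Sylow.smul_eq_iff_mem_normalizer.2 (Subgroup.le_normalizer hx))⟩, hxR⟩
  have h1 := Nat.card_congr (orbitProdStabilizerEquivGroup (stabilizer Q A) B)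
  rw [Nat.card_prod, hstab, horb] at h1
  have hc : Nat.card ↥({R : Sylow p Q | R ≠ A}) = q := by
    show Nat.card {R : Sylow p Q // R ≠ A} = q
    rw [Nat.card_eq_fintype_card, Fintype.card_subtype_compl, Fintype.card_subtype_eq,
      ← Nat.card_eq_fintype_card, S.card_sylows]
    omega
  have hs : Nat.card ↥(stabilizer (stabilizer Q A) B) =
      Nat.card ↥(stabilizer Q A ⊓ stabilizer Q B) := by
    rw [show stabilizer (stabilizer Q A) B = (stabilizer Q B).subgroupOf (stabilizer Q A) from by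
        ext x; rfl,
      ← Subgroup.inf_subgroupOf_left,
      Nat.card_congr (Subgroup.subgroupOfEquivOfLe inf_le_left).toEquiv]
  rw [hc, hs] at h1
  rw [Nat.eq_of_mul_eq_mul_left (by have := S.h4; omega) h1, hdm]

/-- The case of even `q`. -/
theorem CentSylow.iso_even (hp2 : p = 2) :
    ∃ (K : Type) (_ : Field K) (_ : Fintype K), Fintype.card K = q ∧
      Nonempty (Q ≃* Matrix.ProjectiveSpecialLinearGroup (Fin 2) K) := by
  subst hp2
  haveI := Fact.mk Nat.prime_two
  obtain ⟨T⟩ : Nonempty (Sylow 2 Q) := inferInstance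
  have h4 := S.h4
  have hsq : ∀ z ∈ (T : Subgroup Q), z ^ 2 = 1 := fun z hz => S.pow_p (S.exists_pow T hz)
  obtain ⟨K, iK, iF, hK, hiso⟩ := S1230.result T (fun hc => by
      obtain ⟨g, hg⟩ := IsCyclic.exists_ofOrder_eq_natCard (α := (T : Subgroup Q))
      have := Nat.le_of_dvd two_pos (orderOf_dvd_of_pow_eq_one (hsq g g.2))
      rw [Subgroup.orderOf_coe, hg, S.card_sylow T] at this
      omega)
    (fun hn => by
      have := S.card_sylows
      rw [Sylow.card_eq_index_normalizer T, show Subgroup.normalizer (T : Set Q) = ⊤ from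
        Subgroup.normalizer_eq_top_iff.2 hn,
        Subgroup.index_top] at this
      omega)
    (fun t ht => by
      have ht1 : t ≠ 1 := fun e => by rw [e, orderOf_one] at ht; omega
      obtain ⟨P, hP⟩ := S.exists_sylow ht1 ⟨1, by rw [pow_one, ← ht, pow_orderOf_eq_one]⟩
      rw [← hP]
      exact ⟨⟨⟨fun a b => Subtype.ext (S.sylow_comm P a.2 b.2)⟩⟩,
        fun c hc => S.pow_p (S.exists_pow P hc)⟩)
  exact ⟨K, iK, iF, hK.trans (S.card_sylow T), hiso⟩

/-- The case of odd `q`: there is no regular normal subgroup. -/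
theorem CentSylow.not_regular (hp2 : p ≠ 2)
    (hfix : ∀ u r : Q, ∀ l j : ℕ, l.Prime → l ≠ 2 → l ∣ q - 1 → q + 1 = 2 ^ j → orderOf u = l →
      orderOf r = 2 → u * r = r * u → False)
    (R : Subgroup Q) [R.Normal] (hR : IsPretransitive R (Sylow p Q)) :
    ∃ a : Sylow p Q, stabilizer R a ≠ ⊥ := by
  classical
  by_contra hcon
  push Not at hcon
  haveI := Fact.mk S.hp
  haveI := Fintype.ofFinite Q
  obtain ⟨P⟩ : Nonempty (Sylow p Q) := inferInstance
  have h4 := S.h4
  have hd : d = 2 := by rcases S.hd with h | h <;> omega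
  have hqodd : Odd q := by
    obtain ⟨f, hf⟩ := S.hq
    rw [hf]
    exact (S.hp.odd_of_ne_two hp2).pow
  obtain ⟨w, hw⟩ := hqodd
  have hR2 : Nat.card R = q + 1 := by
    have h1 := Nat.card_congr (orbitProdStabilizerEquivGroup R P)
    rw [Nat.card_prod, hcon P, Subgroup.card_bot, mul_one, orbit_eq_univ, Nat.card_univ,
      S.card_sylows] at h1
    exact h1.symm
  haveI := Fact.mk Nat.prime_two
  obtain ⟨r, hr⟩ := exists_prime_orderOf_dvd_card' 2 (show 2 ∣ Nat.card R by rw [hR2]; omega)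
  set r0 : Q := (r : Q) with hr0
  have hr2 : orderOf r0 = 2 := by rw [hr0, Subgroup.orderOf_coe, hr]
  have hrne : r0 ≠ 1 := fun e => by rw [e, orderOf_one] at hr2; omega
  let f : ↥(P : Subgroup Q) → {x : Q // x ∈ R ∧ x ≠ 1} := fun u =>
    ⟨(u : Q) * r0 * (u : Q)⁻¹, Subgroup.Normal.conj_mem inferInstance _ r.2 _,
      fun e => hrne (by simpa using e)⟩
  have hinj : Function.Injective f := fun u v e => by
    by_contra hne
    have e' : (u : Q) * r0 * (u : Q)⁻¹ = (v : Q) * r0 * (v : Q)⁻¹ := congrArg Subtype.val e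
    have hvu : (v : Q)⁻¹ * u ∈ (P : Subgroup Q) := mul_mem (inv_mem v.2) u.2
    have hvu1 : (v : Q)⁻¹ * u ≠ 1 := fun h1 => hne (Subtype.ext (inv_mul_eq_one.1 h1).symm)
    have hrC : r0 ∈ (P : Subgroup Q) := by
      rw [← S.cent hvu hvu1, Subgroup.mem_centralizer_singleton_iff]
      calc r0 * ((v : Q)⁻¹ * u)
          = (v : Q)⁻¹ * ((v : Q) * r0 * (v : Q)⁻¹) * u := by group
        _ = (v : Q)⁻¹ * ((u : Q) * r0 * (u : Q)⁻¹) * u := by rw [e']
        _ = (v : Q)⁻¹ * u * r0 := by group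
    have hfix' : (⟨r0, r.2⟩ : R) ∈ stabilizer R P :=
      mem_stabilizer_iff.2 (Sylow.smul_eq_iff_mem_normalizer.2 (Subgroup.le_normalizer hrC))
    rw [hcon P, Subgroup.mem_bot] at hfix'
    exact hrne (congrArg Subtype.val hfix')
  have hcard : Nat.card (P : Subgroup Q) = Nat.card {x : Q // x ∈ R ∧ x ≠ 1} := by
    rw [S.card_sylow, card_ne_one S R, hR2]
    omega
  have hsurj := ((Nat.bijective_iff_injective_and_card f).2 ⟨hinj, hcard⟩).2
  have hinvol : ∀ z : R, z ≠ 1 → orderOf (z : Q) = 2 := fun z hz => by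
    obtain ⟨u, hu⟩ := hsurj ⟨(z : Q), z.2, fun e => hz (Subtype.ext e)⟩
    rw [show (z : Q) = (u : Q) * r0 * (u : Q)⁻¹ from (congrArg Subtype.val hu).symm,
      ← hr2, ← MulAut.conj_apply, MulEquiv.orderOf_eq]
  have h2pow : ∃ j, Nat.card R = 2 ^ j := IsPGroup.iff_card.1 fun z => ⟨1, by
    by_cases hz : z = 1
    · rw [hz, one_pow]
    · have := hinvol z hz
      rw [pow_one, ← this, Subgroup.orderOf_coe, pow_orderOf_eq_one]⟩
  obtain ⟨j, hj⟩ := h2pow
  rw [hR2] at hj
  -- a two-point stabiliser centralises the element of `R` joining the two points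
  obtain ⟨B, hB, -⟩ := S.exists_third P P
  have hcardH := S.two_point_card hB.symm
  rw [hd] at hcardH
  set H := stabilizer Q P ⊓ stabilizer Q B with hH
  have hHodd : ¬ 2 ∣ Nat.card H := by
    rcases j with _ | _ | j
    · omega
    · omega
    · rw [pow_succ, pow_succ] at hj; omega
  obtain ⟨l, hl, hlH⟩ := Nat.exists_prime_and_dvd (show Nat.card H ≠ 1 by
    intro e
    rw [e] at hcardH
    rcases j with _ | _ | _ | j <;> simp [pow_succ] at hj <;> omega)
  haveI := Fact.mk hl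
  obtain ⟨⟨u, huH⟩, huo⟩ := exists_prime_orderOf_dvd_card' (G := H) l hlH
  rw [Subgroup.orderOf_mk] at huo
  obtain ⟨z, hz⟩ := MulAction.exists_smul_eq R P B
  have hz' : (z : Q) • P = B := hz
  have hz1 : z ≠ 1 := fun e => hB (by rw [← hz, e, one_smul])
  have hzc : u * (z : Q) * u⁻¹ = z := by
    have hm : (⟨(z : Q)⁻¹ * (u * z * u⁻¹), R.mul_mem (R.inv_mem z.2)
        (Subgroup.Normal.conj_mem inferInstance _ z.2 u)⟩ : R) ∈ stabilizer R P := by
      rw [mem_stabilizer_iff]
      show ((z : Q)⁻¹ * (u * z * u⁻¹)) • P = P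
      rw [mul_smul, mul_smul, mul_smul, inv_smul_eq_iff.2 (mem_stabilizer_iff.1 huH.1).symm, hz',
        mem_stabilizer_iff.1 huH.2, inv_smul_eq_iff, hz']
    rw [hcon P, Subgroup.mem_bot] at hm
    exact (inv_mul_eq_one.1 (congrArg Subtype.val hm)).symm
  exact hfix u z l j hl (fun e => hHodd (e ▸ hlH)) (hlH.trans (Dvd.intro_left _ hcardH)) hj huo
    (hinvol z hz1) (mul_inv_eq_iff_eq_mul.1 hzc)

/-- The case of odd `q`. -/
theorem CentSylow.iso_odd (hp2 : p ≠ 2)
    (hfix : ∀ u r : Q, ∀ l j : ℕ, l.Prime → l ≠ 2 → l ∣ q - 1 → q + 1 = 2 ^ j → orderOf u = l →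
      orderOf r = 2 → u * r = r * u → False) :
    ∃ (K : Type) (_ : Field K) (_ : Fintype K), Fintype.card K = q ∧
      Nonempty (Q ≃* Matrix.ProjectiveSpecialLinearGroup (Fin 2) K) := by
  classical
  haveI := Fact.mk S.hp
  haveI := Fintype.ofFinite (Sylow p Q)
  have h4 := S.h4
  have hd : d = 2 := by rcases S.hd with h | h <;> omega
  obtain ⟨A⟩ : Nonempty (Sylow p Q) := inferInstance
  obtain ⟨B, hB, -⟩ := S.exists_third A A
  obtain ⟨C, hCA, hCB⟩ := S.exists_third A B
  have hc := S.two_point_card hB.symm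
  rw [hd] at hc
  have hZ : Cfsg.IsZassenhausGroup Q (Sylow p Q) := by
    refine ⟨⟨fun {g₁ g₂} hg => ?_⟩, S.isPretransitive, ?_, ?_, fun N hN hT => by
      haveI := hN
      exact S.not_regular hp2 hfix N hT⟩
    · have hfx : ∀ R : Sylow p Q, (g₁⁻¹ * g₂) • R = R := fun R => by
        rw [mul_smul, ← hg, inv_smul_smul]
      exact inv_mul_eq_one.1
        (S.eq_one_of_fix_three hB.symm hCB.symm hCA.symm (hfx A) (hfx B) (hfx C))
    · intro g a b c hab hbc hac ha hb hc'
      exact S.eq_one_of_fix_three hab hbc hac ha hb hc'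
    · have hne : stabilizer Q A ⊓ stabilizer Q B ≠ ⊥ := fun e => by
        rw [e, Subgroup.card_bot] at hc
        omega
      obtain ⟨g, hg, hg1⟩ := (Subgroup.bot_or_exists_ne_one _).resolve_left hne
      exact ⟨g, hg1, A, B, hB.symm, hg.1, hg.2⟩
  have hle : (A : Subgroup Q) ≤ stabilizer Q A := fun u hu =>
    mem_stabilizer_iff.2 (Sylow.smul_eq_iff_mem_normalizer.2 (Subgroup.le_normalizer hu))
  have hn : ((A : Subgroup Q).subgroupOf (stabilizer Q A)).Normal := by
    rw [Subgroup.normal_subgroupOf_iff_le_normalizer hle, Sylow.stabilizer_eq_normalizer]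
    exact le_rfl
  have hreg : ∀ y z : Sylow p Q, y ≠ A → z ≠ A → ∃! u : (A : Subgroup Q), (u : Q) • y = z := by
    intro y z hy hz
    obtain ⟨u, hu, huy⟩ := S.exists_smul A hy hz
    refine ⟨⟨u, hu⟩, huy, fun v hv => Subtype.ext ?_⟩
    exact (inv_mul_eq_one.1 (S.eq_one_of_fix (mul_mem (inv_mem v.2) hu) (R := y) (by
      rw [mul_smul, huy, inv_smul_eq_iff]; exact hv.symm) hy))
  have hfr := Perm.Zassenhaus.frame_of_zass hZ hB.symm (A : Subgroup Q) hle hn
    ⟨⟨fun a b => Subtype.ext (S.sylow_comm A a.2 b.2)⟩⟩ hreg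
  obtain ⟨K, iK, iF, -, hK, hiso⟩ := Perm.Zassenhaus.psl_of_zass hZ hfr (by
    rw [← Nat.card_eq_fintype_card, S.card_sylows]; omega)
  refine ⟨K, iK, iF, ?_, hiso⟩
  rw [← Nat.card_eq_fintype_card (α := Sylow p Q), S.card_sylows] at hK
  omega

end Cfsg.Agent.ClassSizePSL
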