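import Mathlib
import Cfsg.Agent.Lib.ClassSizePSL.Recognize
import Cfsg.Agent.Lib.ClassSizePSL.Quotient
import Cfsg.Agent.Lib.ClassSizePSL.PSL
import Cfsg.Agent.Lib.Classical.Linear
import Cfsg.Agent.Lib.Classical.SL2Rep

/-!
# The central extension splits
-/

set_option autoImplicit false
set_option linter.unusedSectionVars false
set_option linter.unusedVariables false
set_option linter.style.haveILetI false

open Matrix
open scoped MatrixGroups

namespace Cfsg.Agent.ClassSizePSL

universe u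

variable {G : Type u} [Group G] [Finite G]

local notation "G⁄Z" => G ⧸ Subgroup.center G

theorem pow_index_mem {z : G} (hz : z ∈ Subgroup.center G) (hz' : z ∈ commutator G) (H : Subgroup G) :
    z ^ H.index ∈ (commutator H).map H.subtype := by
  have hc : ∀ (k : ℕ) (g₀ : G), g₀⁻¹ * z ^ k * g₀ ∈ H → g₀⁻¹ * z ^ k * g₀ = z ^ k := fun k g₀ _ => by
    rw [mul_assoc, ← Subgroup.mem_center_iff.1 (pow_mem hz k) g₀, inv_mul_cancel_left]
  have h := MonoidHom.transfer_eq_pow (Abelianization.of (G := H)) z hc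
  have h1 : MonoidHom.transfer (Abelianization.of (G := H)) z = 1 :=
    Abelianization.commutator_subset_ker _ hz'
  exact ⟨⟨z ^ H.index, MonoidHom.transfer_eq_pow_aux z hc⟩,
    (QuotientGroup.eq_one_iff _).1 (h.symm.trans h1), rfl⟩

theorem pow_index_eq_one {z : G} (hz : z ∈ Subgroup.center G) (hz' : z ∈ commutator G) (H : Subgroup G)
    (hH : ∀ a ∈ H, ∀ b ∈ H, a * b = b * a) : z ^ H.index = 1 := by
  obtain ⟨x, hx, e⟩ := pow_index_mem hz hz' H
  have hbot : commutator H = ⊥ := by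
    rw [commutator_def, Subgroup.commutator_eq_bot_iff_le_centralizer]
    intro a _
    rw [Subgroup.mem_centralizer_iff]
    exact fun b _ => Subtype.ext (hH b b.2 a a.2)
  rw [SetLike.mem_coe, hbot, Subgroup.mem_bot] at hx
  rw [← e, hx, map_one]

/-- A prime whose Sylow subgroups in the quotient are cyclic. -/
theorem torsion_cyclic {z : G} (hz : z ∈ Subgroup.center G) (hz' : z ∈ commutator G) {l : ℕ}
    (K : Subgroup G⁄Z) (hK : IsCyclic K) (hl : ¬ l ∣ K.index) : ∃ n, z ^ n = 1 ∧ ¬ l ∣ n := by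
  set H := K.comap (QuotientGroup.mk' (Subgroup.center G)) with hH
  refine ⟨H.index, pow_index_eq_one hz hz' H fun a ha b hb => ?_,
    by rwa [hH, Subgroup.index_comap_of_surjective _ (QuotientGroup.mk'_surjective _)]⟩
  let f : H →* K :=
    { toFun := fun x => ⟨QuotientGroup.mk' (Subgroup.center G) (x : G), x.2⟩
      map_one' := Subtype.ext (map_one (QuotientGroup.mk' (Subgroup.center G)))
      map_mul' := fun x y => Subtype.ext (map_mul (QuotientGroup.mk' (Subgroup.center G)) _ _) }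
  have hf : f.ker ≤ Subgroup.center H := fun x hx => by
    have hx' : (x : G) ∈ Subgroup.center G := by
      rw [← QuotientGroup.eq_one_iff]
      exact congrArg Subtype.val (MonoidHom.mem_ker.1 hx)
    exact Subgroup.mem_center_iff.2 fun y => Subtype.ext (Subgroup.mem_center_iff.1 hx' (y : G))
  exact congrArg Subtype.val (commutative_of_cyclic_center_quotient f hf ⟨a, ha⟩ ⟨b, hb⟩)

/-- The prime `p`. -/
theorem torsion_p {z : G} (hz : z ∈ Subgroup.center G) (hz' : z ∈ commutator G) {p q d : ℕ}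
    (S : CentSylow G⁄Z p q d)
    (himg : ∀ y : G, y ∉ Subgroup.center G → (∃ i, y ^ p ^ i = 1) → Nat.card (img y) = q) :
    ∃ n, z ^ n = 1 ∧ ¬ p ∣ n := by
  haveI := Fact.mk S.hp
  obtain ⟨P⟩ : Nonempty (Sylow p G⁄Z) := inferInstance
  set H := (P : Subgroup G⁄Z).comap (QuotientGroup.mk' (Subgroup.center G)) with hH
  refine ⟨H.index, pow_index_eq_one hz hz' H fun a ha b hb => ?_,
    by rw [hH, Subgroup.index_comap_of_surjective _ (QuotientGroup.mk'_surjective _)]; exact P.not_dvd_index⟩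
  obtain ⟨u, v, rfl, huv, hu, hv, ⟨i, hi⟩, hco⟩ := CharTheory.QuasiElementary.exists_pPart_decomp b S.hp
  have hbH : ∀ w ∈ Subgroup.zpowers (u * v), (w : G⁄Z) ∈ (P : Subgroup G⁄Z) := fun w hw =>
    (Subgroup.zpowers_le.2 hb) hw
  have huc : u ∈ Subgroup.center G := by
    rw [← QuotientGroup.eq_one_iff, ← orderOf_eq_one_iff]
    obtain ⟨j, hj⟩ := S.exists_pow P (hbH u hu)
    exact ((hco.pow_right j).coprime_dvd_left (orderOf_map_dvd (QuotientGroup.mk' _) u)).eq_one_of_dvd
      (orderOf_dvd_of_pow_eq_one hj)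
  have hau : a * u = u * a := Subgroup.mem_center_iff.1 huc a
  have hav : a * v = v * a := by
    by_cases hvc : v ∈ Subgroup.center G
    · exact Subgroup.mem_center_iff.1 hvc a
    · have hv1 : (v : G⁄Z) ≠ 1 := fun e => hvc ((QuotientGroup.eq_one_iff v).1 e)
      have h2 := S.cent (hbH v hv) hv1
      have h3 : img v = Subgroup.centralizer ({(v : G⁄Z)} : Set G⁄Z) := by
        refine Subgroup.eq_of_le_of_card_ge (img_le_centralizer v) ?_
        rw [himg v hvc ⟨i, by rw [← hi, pow_orderOf_eq_one]⟩, h2, S.card_sylow]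
      refine (mk_mem_img (g := v)).1 ?_
      rw [h3, h2]
      exact ha
  rw [← mul_assoc, hau, mul_assoc, hav, ← mul_assoc]

/-- Two in the dihedral case. -/
theorem torsion_two {F : Type*} [Field F] [Fintype F] (hodd : ¬ 2 ∣ Fintype.card F)
    (h7 : 7 ≤ Fintype.card F) {m k : ℕ}
    (hrel : (4 * m + 1 = Fintype.card F ∧ 2 * k = Fintype.card F + 1) ∨
      (4 * m = Fintype.card F + 1 ∧ 2 * k + 1 = Fintype.card F))
    (e : G⁄Z ≃* Matrix.ProjectiveSpecialLinearGroup (Fin 2) F)
    (hcard : Nat.card G⁄Z = 4 * m * k * Fintype.card F)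
    (hex : ∃ h : G, idx h = k * Fintype.card F) {z : G} (hz : z ∈ Subgroup.center G)
    (hz' : z ∈ commutator G) : ∃ n, z ^ n = 1 ∧ ¬ 2 ∣ n := by
  classical
  obtain ⟨t, w, hto, hww, hwt, hcl, hC4, hconj⟩ := PSL.exists_dihedral hodd h7 hrel
  set q := Fintype.card F with hq
  obtain ⟨h₀, hh₀⟩ := hex
  have hD1 : k * q ≠ 1 := fun h => by
    have := Nat.eq_one_of_mul_eq_one_left h; omega
  have hh₀c : h₀ ∉ Subgroup.center G := fun h => hD1 (hh₀.symm.trans ((idx_eq_one_iff h₀).2 h))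
  have himg₀ : Nat.card (img h₀) = 4 * m := card_img hcard hh₀ (by ring)
  have hcardC : ∀ g : G, Nat.card (Subgroup.centralizer ({e (g : G⁄Z)} : Set _)) =
      Nat.card (Subgroup.centralizer ({(g : G⁄Z)} : Set G⁄Z)) := fun g => by
    refine (Nat.card_congr (e.toEquiv.subtypeEquiv fun x => ?_)).symm
    rw [Subgroup.mem_centralizer_singleton_iff, Subgroup.mem_centralizer_singleton_iff]
    show _ ↔ e x * e _ = e _ * e x
    rw [← map_mul, ← map_mul, e.injective.eq_iff]
  -- the image of `h₀` has a centraliser of order `4 m`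
  have h4m : Nat.card (Subgroup.centralizer ({e (h₀ : G⁄Z)} : Set _)) = 4 * m := by
    obtain ⟨u, hu⟩ := QuotientGroup.mk_surjective (e (h₀ : G⁄Z))
    have hus : ¬ GL2.Classes.IsScalar (u : Matrix (Fin 2) (Fin 2) F) := fun hs => by
      have h1 : e (h₀ : G⁄Z) = 1 := by rw [← hu]; exact (GL2.PSLProducts.toPSL_eq_one_iff u).2 hs
      rw [EmbeddingLike.map_eq_one_iff, QuotientGroup.eq_one_iff] at h1
      exact hh₀c h1
    obtain ⟨c, hc⟩ : 4 * m ∣ Nat.card (Subgroup.centralizer ({e (h₀ : G⁄Z)} : Set _)) := by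
      rw [hcardC, ← himg₀]
      exact Subgroup.card_dvd_of_le (img_le_centralizer h₀)
    have hpos : 0 < Nat.card (Subgroup.centralizer ({e (h₀ : G⁄Z)} : Set _)) := Nat.card_pos
    have hc0 : c ≠ 0 := fun h => by rw [h, mul_zero] at hc; omega
    have hge : 4 * m * 1 ≤ 4 * m * c := Nat.mul_le_mul_left _ (Nat.pos_of_ne_zero hc0)
    have hev : 2 ∣ Nat.card (Subgroup.centralizer ({e (h₀ : G⁄Z)} : Set _)) :=
      hc ▸ Dvd.dvd.mul_right ⟨2 * m, by ring⟩ c
    rcases PSL.card_centralizer hodd u hus with ⟨-, h⟩ | ⟨-, h⟩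
    · change Nat.card (Subgroup.centralizer
        ({(u : Matrix.ProjectiveSpecialLinearGroup (Fin 2) F)} : Set _)) = _ ∨ Nat.card (Subgroup.centralizer
        ({(u : Matrix.ProjectiveSpecialLinearGroup (Fin 2) F)} : Set _)) = _ at h
      rw [hu] at h
      replace h : Nat.card (Subgroup.centralizer ({e (h₀ : G⁄Z)} : Set _)) = q - 1 ∨
          Nat.card (Subgroup.centralizer ({e (h₀ : G⁄Z)} : Set _)) = q + 1 := h
      rcases c with _ | _ | c
      · omega
      · simpa using hc
      · have : 4 * m * 2 ≤ 4 * m * (c + 1 + 1) := Nat.mul_le_mul_left _ (by omega)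
        rw [← hc] at this
        omega
    · change 2 * Nat.card (Subgroup.centralizer
        ({(u : Matrix.ProjectiveSpecialLinearGroup (Fin 2) F)} : Set _)) = _ ∨ 2 * Nat.card (Subgroup.centralizer
        ({(u : Matrix.ProjectiveSpecialLinearGroup (Fin 2) F)} : Set _)) = _ ∨ Nat.card (Subgroup.centralizer
        ({(u : Matrix.ProjectiveSpecialLinearGroup (Fin 2) F)} : Set _)) = _ at h
      rw [hu] at h
      replace h : 2 * Nat.card (Subgroup.centralizer ({e (h₀ : G⁄Z)} : Set _)) = q - 1 ∨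
          2 * Nat.card (Subgroup.centralizer ({e (h₀ : G⁄Z)} : Set _)) = q + 1 ∨
          Nat.card (Subgroup.centralizer ({e (h₀ : G⁄Z)} : Set _)) = q := h
      rw [mul_one, ← hc] at hge
      omega
  obtain ⟨x, hx⟩ := isConj_iff.1 (hconj _ h4m)
  obtain ⟨x', hx'⟩ := QuotientGroup.mk_surjective (e.symm x)
  set h := x' * h₀ * x'⁻¹ with hh
  have hidx : idx h = k * q := (idx_conj x' h₀).trans hh₀
  have heh : e (h : G⁄Z) = t ^ m := by
    rw [hh, QuotientGroup.mk_mul, QuotientGroup.mk_mul, QuotientGroup.mk_inv, hx', map_mul, map_mul,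
      map_inv, e.apply_symm_apply, hx]
  set C := Subgroup.centralizer ({h} : Set G) with hCdef
  have himg : img h = Subgroup.centralizer ({(h : G⁄Z)} : Set G⁄Z) := by
    refine Subgroup.eq_of_le_of_card_ge (img_le_centralizer h) ?_
    rw [card_img hcard hidx (by ring : k * q * (4 * m) = _), ← hcardC, heh, hC4]
  have hmemC : ∀ y : G, e (y : G⁄Z) ∈ Subgroup.closure ({t, w} : Set _) ↔ y ∈ C := by
    intro y
    rw [← hcl, ← heh, Subgroup.mem_centralizer_singleton_iff, ← map_mul, ← map_mul, e.injective.eq_iff,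
      ← Subgroup.mem_centralizer_singleton_iff, ← himg, mk_mem_img, hCdef,
      Subgroup.mem_centralizer_singleton_iff]
  obtain ⟨g, hg⟩ := QuotientGroup.mk_surjective (e.symm t)
  obtain ⟨w₀, hw₀⟩ := QuotientGroup.mk_surjective (e.symm w)
  have heg : e (g : G⁄Z) = t := by rw [hg, e.apply_symm_apply]
  have hew : e (w₀ : G⁄Z) = w := by rw [hw₀, e.apply_symm_apply]
  have hgC : g ∈ C := (hmemC g).1 (heg ▸ Subgroup.subset_closure (by simp))
  have hwC : w₀ ∈ C := (hmemC w₀).1 (hew ▸ Subgroup.subset_closure (by simp))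
  have hcen : ∀ a : G, e (a : G⁄Z) = 1 → a ∈ Subgroup.center G := fun a ha =>
    (QuotientGroup.eq_one_iff a).1 (e.injective (ha.trans (map_one e).symm))
  -- `w₀ g w₀⁻¹ = g⁻¹ z₁`
  set z₁ := g * (w₀ * g * w₀⁻¹) with hz₁
  have hz₁c : z₁ ∈ Subgroup.center G := hcen _ (by
    rw [hz₁]
    simp only [QuotientGroup.mk_mul, QuotientGroup.mk_inv, map_mul, map_inv, heg, hew, hwt,
      mul_inv_cancel])
  have hcomz : ∀ a, Commute a z₁ := fun a => Subgroup.mem_center_iff.1 hz₁c a
  have hwg : w₀ * g * w₀⁻¹ = g⁻¹ * z₁ := by rw [hz₁, inv_mul_cancel_left]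
  set c := g * g * z₁⁻¹ with hc
  have hwc : w₀ * c * w₀⁻¹ = c⁻¹ := by
    have e1 : w₀ * c * w₀⁻¹ = w₀ * g * w₀⁻¹ * (w₀ * g * w₀⁻¹) * z₁⁻¹ := by
      rw [hc]
      calc w₀ * (g * g * z₁⁻¹) * w₀⁻¹ = w₀ * g * g * (z₁⁻¹ * w₀⁻¹) := by group
        _ = w₀ * g * g * (w₀⁻¹ * z₁⁻¹) := by rw [((hcomz w₀).inv_inv).eq]
        _ = _ := by group
    rw [e1, hwg, hc]
    calc g⁻¹ * z₁ * (g⁻¹ * z₁) * z₁⁻¹ = g⁻¹ * (z₁ * g⁻¹) := by group
      _ = g⁻¹ * (g⁻¹ * z₁) := by rw [(hcomz g⁻¹).eq]
      _ = g⁻¹ * g⁻¹ * z₁ := by group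
      _ = z₁ * (g⁻¹ * g⁻¹) := (hcomz _).eq
      _ = (g * g * z₁⁻¹)⁻¹ := by group
  have hgc : g * c * g⁻¹ = c := by
    rw [hc]
    calc g * (g * g * z₁⁻¹) * g⁻¹ = g * g * (g * z₁⁻¹) * g⁻¹ := by group
      _ = g * g * (z₁⁻¹ * g) * g⁻¹ := by rw [((hcomz g).inv_right).eq]
      _ = g * g * z₁⁻¹ := by group
  -- `c ^ m = 1`
  have hcm : c ^ m = 1 := by
    have hgm : (g : G⁄Z) ^ m = (h : G⁄Z) := e.injective (by rw [map_pow, heg, heh])
    rw [← QuotientGroup.mk_pow, QuotientGroup.eq] at hgm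
    have hwh : Commute w₀ h := Subgroup.mem_centralizer_singleton_iff.1 hwC
    have hwgm : Commute w₀ (g ^ m) := by
      have h1 : Commute w₀ ((g ^ m)⁻¹ * h) := Subgroup.mem_center_iff.1 hgm w₀
      have h2 := hwh.mul_right h1.inv_right
      rwa [_root_.mul_inv_rev, inv_inv, mul_inv_cancel_left] at h2
    have e1 : g ^ m = (g⁻¹ * z₁) ^ m := by
      rw [← hwg, conj_pow, hwgm.eq, mul_inv_cancel_right]
    rw [(hcomz g⁻¹).mul_pow, inv_pow, eq_inv_mul_iff_mul_eq] at e1
    rw [hc, (hcomz _).inv_right.mul_pow, (Commute.refl g).mul_pow, e1, inv_pow, mul_inv_cancel]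
  -- the commutator subgroup of `C` lies in `⟨c⟩`
  have hgen : C = Subgroup.closure ({g, w₀} : Set G) ⊔ Subgroup.center G := by
    refine le_antisymm (fun y hy => ?_) (sup_le ?_ (center_le h))
    · have h1 := (hmemC y).2 hy
      have h2 : Subgroup.closure ({t, w} : Set _) =
          (Subgroup.closure ({g, w₀} : Set G)).map (e.toMonoidHom.comp (QuotientGroup.mk' _)) := by
        rw [MonoidHom.map_closure, Set.image_pair]
        simp [heg, hew]
      rw [h2] at h1
      obtain ⟨y', hy', e'⟩ := h1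
      have : y'⁻¹ * y ∈ Subgroup.center G := QuotientGroup.eq.1 (e.injective e')
      simpa using Subgroup.mul_mem_sup hy' this
    · rw [Subgroup.closure_le]
      intro y hy
      rcases hy with rfl | rfl
      · exact hgC
      · exact hwC
  have hKn : C ≤ Subgroup.normalizer (Subgroup.zpowers c : Set G) := by
    rw [hgen]
    refine sup_le ?_ (Subgroup.center_le_normalizer ..)
    rw [Subgroup.closure_le]
    intro y hy
    rw [SetLike.mem_coe, Subgroup.mem_normalizer_iff]
    have hy' : y * c * y⁻¹ = c ∨ y * c * y⁻¹ = c⁻¹ := by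
      rcases hy with rfl | rfl
      · exact Or.inl hgc
      · exact Or.inr hwc
    have hmap : (Subgroup.zpowers c).map (MulAut.conj y).toMonoidHom = Subgroup.zpowers c := by
      rw [MonoidHom.map_zpowers]
      rcases hy' with h' | h' <;> simp [h', Subgroup.zpowers_inv]
    intro a
    constructor
    · intro ha
      exact hmap ▸ ⟨a, ha, rfl⟩
    · intro ha
      rw [← hmap] at ha
      obtain ⟨a', ha', e'⟩ := ha
      exact (MulAut.conj y).injective e' ▸ ha'
  have hK0C : Subgroup.zpowers c ≤ C :=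
    Subgroup.zpowers_le.2 (mul_mem (mul_mem hgC hgC) (inv_mem (center_le h hz₁c)))
  haveI hn : ((Subgroup.zpowers c).subgroupOf C).Normal :=
    (Subgroup.normal_subgroupOf_iff_le_normalizer hK0C).2 hKn
  set π := QuotientGroup.mk' ((Subgroup.zpowers c).subgroupOf C) with hπ
  have hcgw : Commute (π ⟨g, hgC⟩) (π ⟨w₀, hwC⟩) := by
    show π _ * π _ = π _ * π _
    rw [← map_mul, ← map_mul, hπ, QuotientGroup.mk'_apply, QuotientGroup.mk'_apply, QuotientGroup.eq,
      Subgroup.mem_subgroupOf]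
    show (g * w₀)⁻¹ * (w₀ * g) ∈ Subgroup.zpowers c
    have : (g * w₀)⁻¹ * (w₀ * g) = c := by
      have e1 : w₀⁻¹ * g⁻¹ * w₀ = g * z₁⁻¹ := by
        calc w₀⁻¹ * g⁻¹ * w₀ = w₀⁻¹ * g⁻¹ * w₀ * 1 := (mul_one _).symm
          _ = g * z₁⁻¹ := by
            have e2 : w₀ * (g * z₁⁻¹) * w₀⁻¹ = g⁻¹ := by
              calc w₀ * (g * z₁⁻¹) * w₀⁻¹ = w₀ * g * (z₁⁻¹ * w₀⁻¹) := by group
                _ = w₀ * g * (w₀⁻¹ * z₁⁻¹) := by rw [((hcomz w₀).inv_inv).eq]
                _ = w₀ * g * w₀⁻¹ * z₁⁻¹ := by group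
                _ = g⁻¹ := by rw [hwg, mul_inv_cancel_right]
            rw [mul_one]
            conv_lhs => rw [← e2]
            group
      calc (g * w₀)⁻¹ * (w₀ * g) = w₀⁻¹ * g⁻¹ * w₀ * g := by group
        _ = g * (z₁⁻¹ * g) := by rw [e1, mul_assoc]
        _ = c := by rw [hc, ((hcomz g).inv_right).symm.eq, mul_assoc]
    rw [this]
    exact Subgroup.mem_zpowers c
  have habel : ∀ a b : C, Commute (π a) (π b) := by
    have key : ∀ v : C, Commute (π v) (π ⟨g, hgC⟩) → Commute (π v) (π ⟨w₀, hwC⟩) →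
        ∀ b : C, Commute (π v) (π b) := by
      intro v h1 h2 b
      have hb : (⊤ : Subgroup C) ≤ (Subgroup.centralizer {π v}).comap π := by
        have htop : (⊤ : Subgroup C) =
            ((Subgroup.closure ({g, w₀} : Set G)) ⊔ Subgroup.center G).subgroupOf C := by
          rw [← hgen, Subgroup.subgroupOf_self]
        rw [htop, Subgroup.subgroupOf_sup (sup_le_iff.1 hgen.ge).1 (center_le h)]
        refine sup_le ?_ fun a ha => ?_
        · have hsub : (Subgroup.closure ({g, w₀} : Set G)).subgroupOf C ≤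
              Subgroup.closure ({⟨g, hgC⟩, ⟨w₀, hwC⟩} : Set C) := by
            intro a ha
            have : (a : G) ∈ (Subgroup.closure ({⟨g, hgC⟩, ⟨w₀, hwC⟩} : Set C)).map C.subtype := by
              rw [MonoidHom.map_closure, Set.image_pair]
              exact ha
            obtain ⟨a', ha', e'⟩ := this
            exact (Subtype.ext e' : a' = a) ▸ ha'
          refine hsub.trans ((Subgroup.closure_le _).2 fun a ha => ?_)
          rw [SetLike.mem_coe, Subgroup.mem_comap, Subgroup.mem_centralizer_singleton_iff]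
          rcases ha with rfl | rfl
          · exact h1.symm.eq
          · exact h2.symm.eq
        · rw [Subgroup.mem_comap, Subgroup.mem_centralizer_singleton_iff, ← map_mul, ← map_mul]
          exact congrArg π (Subtype.ext (Subgroup.mem_center_iff.1 (Subgroup.mem_subgroupOf.1 ha) (v : G)).symm)
      exact (Subgroup.mem_centralizer_singleton_iff.1 (Subgroup.mem_comap.1 (hb (Subgroup.mem_top b)))).symm
    intro a b
    exact key a (key _ (Commute.refl _) hcgw a).symm (key _ hcgw.symm (Commute.refl _) a).symm b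
  refine ⟨C.index, ?_, fun hd => ?_⟩
  · obtain ⟨a, ha, hza⟩ := pow_index_mem hz hz' C
    have hker : commutator C ≤ (Subgroup.zpowers c).subgroupOf C := by
      rw [commutator_def, Subgroup.commutator_le]
      intro a _ b _
      rw [← QuotientGroup.eq_one_iff, ← QuotientGroup.mk'_apply, map_commutatorElement]
      exact commutatorElement_eq_one_iff_commute.2 (habel a b)
    obtain ⟨i, hi⟩ : z ^ C.index ∈ Subgroup.zpowers c := hza ▸ Subgroup.mem_subgroupOf.1 (hker ha)
    simp only at hi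
    have h1 : e ((z ^ C.index : G) : G⁄Z) = 1 := by
      rw [(QuotientGroup.eq_one_iff _).2 (pow_mem hz _), map_one]
    rw [← hi, hc, QuotientGroup.mk_zpow, map_zpow, QuotientGroup.mk_mul, QuotientGroup.mk_mul,
      QuotientGroup.mk_inv, (QuotientGroup.eq_one_iff z₁).2 hz₁c, inv_one, mul_one, map_mul, heg,
      ← pow_two, ← zpow_natCast, ← _root_.zpow_mul, ← orderOf_dvd_iff_zpow_eq_one, hto] at h1
    obtain ⟨j, rfl⟩ : (m : ℤ) ∣ i := by
      push_cast at h1
      exact Int.dvd_of_mul_dvd_mul_left two_ne_zero h1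
    rw [← hi, _root_.zpow_mul, zpow_natCast, hcm, _root_.one_zpow]
  · rw [show C.index = k * q from hidx] at hd
    rcases Nat.prime_two.dvd_mul.1 hd with h' | h' <;> omega

theorem commutator_quotient {F : Type*} [Field F] [Fintype F] (h4 : 4 ≤ Fintype.card F)
    (e : G⁄Z ≃* Matrix.ProjectiveSpecialLinearGroup (Fin 2) F) :
    commutator G ⊔ Subgroup.center G = ⊤ := by
  have h1 : commutator (Matrix.ProjectiveSpecialLinearGroup (Fin 2) F) = ⊤ := by
    rw [← top_le_iff, ← Subgroup.map_top_of_surjective _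
      (QuotientGroup.mk'_surjective (Subgroup.center SL(2, F))),
      ← Classical.SL2Rep.commutator_two_eq_top h4, commutator_def, Subgroup.map_commutator]
    exact Subgroup.commutator_mono le_top le_top
  have h2 : (commutator G).map (e.toMonoidHom.comp (QuotientGroup.mk' (Subgroup.center G))) = ⊤ := by
    rw [commutator_def, Subgroup.map_commutator,
      Subgroup.map_top_of_surjective _ (e.surjective.comp (QuotientGroup.mk'_surjective _)), ← commutator_def, h1]
  rw [eq_top_iff]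
  intro g _
  have hg : e (g : G⁄Z) ∈ (commutator G).map (e.toMonoidHom.comp (QuotientGroup.mk' _)) :=
    h2 ▸ Subgroup.mem_top _
  obtain ⟨c, hc, e'⟩ := hg
  have : c⁻¹ * g ∈ Subgroup.center G := QuotientGroup.eq.1 (e.injective e')
  simpa using Subgroup.mul_mem_sup hc this

/-- The direct decomposition. -/
theorem split_of_torsion {F : Type*} [Field F] [Fintype F] (h4 : 4 ≤ Fintype.card F)
    (e : G⁄Z ≃* Matrix.ProjectiveSpecialLinearGroup (Fin 2) F)
    (htor : ∀ z ∈ Subgroup.center G, z ∈ commutator G → ∀ l, l.Prime → ∃ n, z ^ n = 1 ∧ ¬ l ∣ n) :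
    ∃ N A : Subgroup G, N.Normal ∧ A ≤ Subgroup.center G ∧ N ⊓ A = ⊥ ∧ N ⊔ A = ⊤ ∧
      Nonempty (N ≃* Matrix.ProjectiveSpecialLinearGroup (Fin 2) F) := by
  have hinf : commutator G ⊓ Subgroup.center G = ⊥ := by
    rw [Subgroup.eq_bot_iff_forall]
    rintro z ⟨hz', hz⟩
    by_contra hz1
    obtain ⟨l, hl, hlz⟩ := Nat.exists_prime_and_dvd (mt orderOf_eq_one_iff.1 hz1)
    obtain ⟨n, hn, hln⟩ := htor z hz hz' l hl
    exact hln (hlz.trans (orderOf_dvd_of_pow_eq_one hn))
  have hsup := commutator_quotient h4 e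
  refine ⟨commutator G, Subgroup.center G, inferInstance, le_rfl, hinf, hsup, ⟨?_⟩⟩
  refine MulEquiv.ofBijective
    ((e.toMonoidHom.comp (QuotientGroup.mk' (Subgroup.center G))).comp (commutator G).subtype) ⟨?_, ?_⟩
  · rw [injective_iff_map_eq_one]
    intro a ha
    have h1 : (a : G) ∈ Subgroup.center G :=
      (QuotientGroup.eq_one_iff _).1 (e.injective (ha.trans (map_one e).symm))
    refine Subtype.ext ((Subgroup.mem_bot).1 (hinf ▸ ⟨a.2, h1⟩))
  · intro y
    obtain ⟨g, hg⟩ := QuotientGroup.mk_surjective (e.symm y)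
    have hmem : g ∈ commutator G ⊔ Subgroup.center G := hsup ▸ Subgroup.mem_top g
    obtain ⟨a, ha, b, hb, rfl⟩ := Subgroup.mem_sup_of_normal_left.1 hmem
    refine ⟨⟨a, ha⟩, ?_⟩
    show e (a : G⁄Z) = y
    rw [← e.apply_symm_apply y, ← hg, QuotientGroup.mk_mul, (QuotientGroup.eq_one_iff b).2 hb, mul_one]

/-- The odd primes different from the characteristic. -/
theorem torsion_other {F : Type*} [Field F] [Fintype F] {p : ℕ} [CharP F p] (hp : p.Prime)
    (e : G⁄Z ≃* Matrix.ProjectiveSpecialLinearGroup (Fin 2) F) {z : G} (hz : z ∈ Subgroup.center G)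
    (hz' : z ∈ commutator G) {l : ℕ} (hl : l.Prime) (hl2 : l ≠ 2) (hlp : l ≠ p) :
    ∃ n, z ^ n = 1 ∧ ¬ l ∣ n := by
  haveI := Fact.mk hl
  haveI := Fact.mk hp
  obtain ⟨R⟩ : Nonempty (Sylow l SL(2, F)) := inferInstance
  haveI := Classical.SylowSL2.isCyclic_sylow p l hl2 hlp R
  set f : SL(2, F) →* G⁄Z :=
    e.symm.toMonoidHom.comp (QuotientGroup.mk' (Subgroup.center SL(2, F))) with hf
  have hfs : Function.Surjective f := e.symm.surjective.comp (QuotientGroup.mk'_surjective _)
  refine torsion_cyclic hz hz' ((R : Subgroup SL(2, F)).map f)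
    (isCyclic_of_surjective (f.subgroupMap (R : Subgroup SL(2, F))) (f.subgroupMap_surjective _)) ?_
  intro hd
  exact (R.mapSurjective hfs).not_dvd_index hd

end Cfsg.Agent.ClassSizePSL
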