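import Mathlib
import Cfsg.Agent.Lib.ClassSizePSL.Extension
import Cfsg.Agent.S2507
import Cfsg.Agent.Lib.Classical.SmallIso

/-!
# Groups with the class sizes of `PSL₂(q)`
-/

set_option autoImplicit false
set_option linter.unusedVariables false
set_option linter.unusedSectionVars false
set_option linter.style.haveILetI false

open Matrix
open scoped MatrixGroups

namespace Cfsg.Agent.ClassSizePSL

universe u v

variable {F : Type v} [Field F] [Fintype F] {G : Type u} [Group G] [Finite G]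

theorem exists_rel (hodd : ¬ 2 ∣ Fintype.card F) (h7 : 7 ≤ Fintype.card F) :
    ∃ m k : ℕ, (4 * m + 1 = Fintype.card F ∧ 2 * k = Fintype.card F + 1) ∨
      (4 * m = Fintype.card F + 1 ∧ 2 * k + 1 = Fintype.card F) := by
  by_cases h : Fintype.card F % 4 = 1
  · exact ⟨(Fintype.card F - 1) / 4, (Fintype.card F + 1) / 2, Or.inl ⟨by omega, by omega⟩⟩
  · exact ⟨(Fintype.card F + 1) / 4, (Fintype.card F - 1) / 2, Or.inr ⟨by omega, by omega⟩⟩

/-- The central quotient in the odd case. -/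
theorem quotient_odd (hodd : ¬ 2 ∣ Fintype.card F) (h7 : 7 ≤ Fintype.card F)
    (h : Set.range (fun g : G => (Subgroup.centralizer ({g} : Set G)).index) =
      Set.range (fun g : Matrix.ProjectiveSpecialLinearGroup (Fin 2) F =>
        (Subgroup.centralizer ({g} : Set (Matrix.ProjectiveSpecialLinearGroup (Fin 2) F))).index)) :
    ∃ p m k : ℕ, p.Prime ∧ CharP F p ∧ p ≠ 2 ∧
      ((4 * m + 1 = Fintype.card F ∧ 2 * k = Fintype.card F + 1) ∨
        (4 * m = Fintype.card F + 1 ∧ 2 * k + 1 = Fintype.card F)) ∧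
      CentSylow (G ⧸ Subgroup.center G) p (Fintype.card F) 2 ∧
      (∀ y : G, y ∉ Subgroup.center G → (∃ i, y ^ p ^ i = 1) → Nat.card (img y) = Fintype.card F) ∧
      Nat.card (G ⧸ Subgroup.center G) = 4 * m * k * Fintype.card F ∧
      (∃ g : G, idx g = k * Fintype.card F) ∧
      Nonempty ((G ⧸ Subgroup.center G) ≃* Matrix.ProjectiveSpecialLinearGroup (Fin 2) F) := by
  obtain ⟨m, k, hrel⟩ := exists_rel hodd h7
  obtain ⟨p, hcp⟩ := CharP.exists F
  obtain ⟨f, hp, hf⟩ := FiniteField.card F p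
  have hp2 : p ≠ 2 := by
    intro e
    refine hodd ?_
    rw [hf, e]
    exact dvd_pow_self 2 f.pos.ne'
  have hV : Set.range (idx (G := G)) = {1, 4 * m * k, k * Fintype.card F, 4 * m * Fintype.card F,
      2 * k * Fintype.card F} := h.trans (PSL.values_odd hodd h7 hrel)
  obtain ⟨S, hcard, himg, hfix⟩ := centSylow_odd hp hp2 hf h7 hrel hV
  obtain ⟨K, iK, iF, hK, ⟨e⟩⟩ := S.iso_odd hp2 hfix
  have hex : ∃ g : G, idx g = k * Fintype.card F := by
    have : k * Fintype.card F ∈ Set.range (idx (G := G)) := by rw [hV]; simp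
    exact this
  exact ⟨p, m, k, hp, hcp, hp2, hrel, S, himg, hcard, hex,
    ⟨e.trans (Classical.SmallIso.pslCongr (FiniteField.ringEquivOfCardEq hK))⟩⟩

/-- The direct product decomposition. -/
theorem decomposition
    (hq : (2 ∣ Fintype.card F ∧ 2 < Fintype.card F) ∨ (¬ 2 ∣ Fintype.card F ∧ 7 ≤ Fintype.card F))
    (h : Set.range (fun g : G => (Subgroup.centralizer ({g} : Set G)).index) =
      Set.range (fun g : Matrix.ProjectiveSpecialLinearGroup (Fin 2) F =>
        (Subgroup.centralizer ({g} : Set (Matrix.ProjectiveSpecialLinearGroup (Fin 2) F))).index)) :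
    ∃ N A : Subgroup G, N.Normal ∧ A ≤ Subgroup.center G ∧ N ⊓ A = ⊥ ∧ N ⊔ A = ⊤ ∧
      Nonempty (N ≃* Matrix.ProjectiveSpecialLinearGroup (Fin 2) F) := by
  rcases hq with ⟨h2, hlt⟩ | ⟨hodd, h7⟩
  · obtain ⟨p, hcp⟩ := CharP.exists F
    obtain ⟨f, hp, hf⟩ := FiniteField.card F p
    obtain rfl : p = 2 :=
      ((Nat.prime_dvd_prime_iff_eq Nat.prime_two hp).1 (Nat.prime_two.dvd_of_dvd_pow (hf ▸ h2))).symm
    set q := Fintype.card F with hqdef
    have h4 : 4 ≤ q := by omega
    have hV : Set.range (idx (G := G)) = {1, q * (q - 1), (q - 1) * (q + 1), q * (q + 1)} := by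
      refine h.trans ((S2507.result (F := F) h2 h4).trans ?_)
      rw [show q ^ 2 - 1 = (q - 1) * (q + 1) by rw [mul_comm, ← Nat.sq_sub_sq, one_pow]]
    obtain ⟨S, -, himg⟩ := centSylow_even hf h4 (by omega : q - 1 + 1 = q) rfl hV
    obtain ⟨K, iK, iF, hK, ⟨e⟩⟩ := S.iso_even rfl
    have e' : (G ⧸ Subgroup.center G) ≃* Matrix.ProjectiveSpecialLinearGroup (Fin 2) F :=
      e.trans (Classical.SmallIso.pslCongr (FiniteField.ringEquivOfCardEq hK))
    refine split_of_torsion h4 e' fun z hz hz' l hl => ?_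
    by_cases hl2 : l = 2
    · subst hl2
      exact torsion_p hz hz' S himg
    · exact torsion_other (p := 2) Nat.prime_two e' hz hz' hl hl2 hl2
  · obtain ⟨p, m, k, hp, hcp, hp2, hrel, S, himg, hcard, hex, ⟨e⟩⟩ := quotient_odd hodd h7 h
    refine split_of_torsion (by omega) e fun z hz hz' l hl => ?_
    by_cases hlp : l = p
    · subst hlp
      exact torsion_p hz hz' S himg
    by_cases hl2 : l = 2
    · subst hl2
      exact torsion_two hodd h7 hrel e hcard hex hz hz'
    · exact torsion_other hp e hz hz' hl hl2 hlp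

end Cfsg.Agent.ClassSizePSL
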